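import Cfsg.Agent.Suz.Sub.Base
import Mathlib

/-!
The order of a normalised subgroup of a Suzuki group and its identification with a subfield group.
-/

set_option autoImplicit false
set_option linter.unusedSectionVars false
set_option linter.style.haveILetI false

namespace Cfsg.Lib.Suz.Sub

open Cfsg.Lib.Suz
open scoped Pointwise

/-- A family has at least four fifths of its possible size. -/
theorem fam_lower {G c w t : ℕ} (ht : 5 ≤ t) (h : c * (w * t) = G * (t - 1)) : 4 * G ≤ 5 * w * c := by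
  obtain ⟨u, rfl⟩ : ∃ u, t = u + 5 := ⟨t - 5, by omega⟩
  rw [show u + 5 - 1 = u + 4 by omega] at h
  by_contra hc
  push Not at hc
  have := Nat.mul_lt_mul_of_pos_right hc (show 0 < u + 5 by omega)
  nlinarith

theorem arith_split {G X s z a c₀ w₀ rest : ℕ} (hG : G = X * (s * z)) (hX : X = 1 + a * s) (ha : 1 ≤ a) (hs : 2 ≤ s)
    (hz : 7 ≤ z) (h0 : c₀ * (w₀ * z) = G * (z - 1)) (hw : w₀ = 1 ∨ w₀ = 2)
    (htot : G + X = 1 + X * s + c₀ + rest) (hbig : 0 < rest → G ≤ 5 * rest) :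
    w₀ = 2 ∧ 2 * z * rest = G * (z - 1) + 2 * z * (a * s) := by
  obtain ⟨y, rfl⟩ : ∃ y, z = y + 1 := ⟨z - 1, by omega⟩
  rw [Nat.add_sub_cancel] at h0 ⊢
  subst hG
  rcases hw with rfl | rfl
  · exfalso
    have h1 : (y + 1) * rest = (y + 1) * (a * s) := by
      subst hX
      zify at htot h0 ⊢
      linear_combination (-(y : ℤ) - 1) * htot - h0
    have h2 : rest = a * s := Nat.eq_of_mul_eq_mul_left (by omega) h1
    have h3 := hbig (by rw [h2]; positivity)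
    subst hX h2
    have : 0 < a * s := by positivity
    have h4 : a * s * (2 * 7) ≤ a * s * (s * (y + 1)) := Nat.mul_le_mul_left _ (Nat.mul_le_mul hs hz)
    nlinarith [h4]
  · refine ⟨rfl, ?_⟩
    subst hX
    zify at htot h0 ⊢
    linear_combination (-2 * (y : ℤ) - 2) * htot - h0

theorem arith_none {G z a s : ℕ} (hG : 0 < G) (hz : 7 ≤ z) : 2 * z * 0 ≠ G * (z - 1) + 2 * z * (a * s) := by
  have : 0 < G * (z - 1) := Nat.mul_pos hG (by omega)
  omega

theorem arith_small {G X s z a e : ℕ} (hG : G = X * (s * z)) (hX : X = 1 + a * s) (ha : 1 ≤ a) (hs : 4 ≤ s)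
    (hz : 7 ≤ z) (hr : 2 * z * e = G * (z - 1) + 2 * z * (a * s)) : 2 * e < G := by
  obtain ⟨y, rfl⟩ : ∃ y, z = y + 1 := ⟨z - 1, by omega⟩
  rw [Nat.add_sub_cancel] at hr
  have hsmall : 2 * (y + 1) * (a * s) < G := by
    subst hG hX
    have : 0 < (y + 1) * s := by positivity
    have h4 : a * s * (4 * (y + 1)) ≤ a * s * (s * (y + 1)) := Nat.mul_le_mul_left _ (Nat.mul_le_mul_right _ hs)
    nlinarith [h4]
  exact Nat.lt_of_mul_lt_mul_left (a := y + 1) (by linarith)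

theorem arith_one {G X s z a c w t : ℕ} (hG : G = X * (s * z)) (hX : X = 1 + a * s) (ha : 1 ≤ a) (hs : 4 ≤ s)
    (hz : 7 ≤ z) (h : c * (w * t) = G * (t - 1)) (ht : 5 ≤ t) (hw : w = 1 ∨ w = 2 ∨ w = 4)
    (hr : 2 * z * c = G * (z - 1) + 2 * z * (a * s)) : w = 2 ∧ z < t ∧ X * (t - z) = 2 * t * a := by
  obtain ⟨u, rfl⟩ : ∃ u, t = u + 1 := ⟨t - 1, by omega⟩
  obtain ⟨y, rfl⟩ : ∃ y, z = y + 1 := ⟨z - 1, by omega⟩
  rw [Nat.add_sub_cancel] at h hr
  have hsmall : 2 * (y + 1) * (a * s) < G := by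
    subst hG hX
    have : 0 < (y + 1) * s := by positivity
    have h4 : a * s * (4 * (y + 1)) ≤ a * s * (s * (y + 1)) := Nat.mul_le_mul_left _ (Nat.mul_le_mul_right _ hs)
    nlinarith [h4]
  have hl := fam_lower (w := w) (c := c) (t := u + 1) ht (by rw [Nat.add_sub_cancel]; exact h)
  rcases hw with rfl | rfl | rfl
  · exfalso
    have h1 : 2 * c < G := by
      by_contra hc
      push Not at hc
      nlinarith
    omega
  · have h1 : (y + 1) * (G * u) = (u + 1) * (G * y + 2 * (y + 1) * (a * s)) := by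
      rw [← h, ← hr]; ring
    have hzt : y < u := by
      by_contra hc
      push Not at hc
      have : 0 < (u + 1) * (2 * (y + 1) * (a * s)) := by positivity
      have : (y + 1) * (G * u) ≤ (u + 1) * (G * y) := by nlinarith
      nlinarith
    refine ⟨rfl, by omega, ?_⟩
    obtain ⟨d, rfl⟩ : ∃ d, u = y + d := ⟨u - y, by omega⟩
    rw [show y + d + 1 - (y + 1) = d by omega]
    subst hG
    refine Nat.eq_of_mul_eq_mul_left (show 0 < s * (y + 1) by positivity) ?_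
    zify at h1 ⊢
    linear_combination h1
  · exfalso
    have h1 : 4 * c < G := Nat.lt_of_mul_lt_mul_right (a := u + 1) (by
      have : G * u < G * (u + 1) := Nat.mul_lt_mul_of_pos_left (Nat.lt_succ_self u) (by omega)
      calc 4 * c * (u + 1) = c * (4 * (u + 1)) := by ring
        _ = G * u := h
        _ < G * (u + 1) := this)
    have h2 : (y + 1) * (4 * c) < (y + 1) * G := Nat.mul_lt_mul_of_pos_left h1 (by omega)
    nlinarith

theorem arith_one_false {X s z a t : ℕ} (hX : X = 1 + a * s) (ha : 1 ≤ a) (hz : 7 ≤ z) (ho : Odd z)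
    (hs : s = (z + 1) ^ 2 ∨ s = z + 1) (ht : z < t) (h : X * (t - z) = 2 * t * a) :
    s = z + 1 ∧ a = 1 ∧ X = z + 2 := by
  obtain ⟨d, rfl⟩ : ∃ d, t = z + d := ⟨t - z, by omega⟩
  rw [Nat.add_sub_cancel_left] at h
  have hd : 1 ≤ d := by omega
  rcases hs with rfl | rfl
  · exfalso
    subst hX
    have e : d * (1 + a * (z ^ 2 + 2 * z)) = 2 * z * a + d * a := by
      zify at h ⊢; linear_combination h
    have p1 : 1 * (z * a) ≤ d * (z * a) := Nat.mul_le_mul_right _ hd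
    have p2 : d * a * (7 * 7) ≤ d * a * (z * z) := Nat.mul_le_mul_left _ (Nat.mul_le_mul hz hz)
    nlinarith [p1, p2]
  · refine ⟨rfl, ?_⟩
    subst hX
    obtain ⟨y, rfl⟩ : ∃ y, z = y + 1 := ⟨z - 1, by omega⟩
    have e : d * (1 + a * y) = 2 * (y + 1) * a := by
      zify at h ⊢; linear_combination h
    have hcop : Nat.Coprime (1 + a * y) a := by simp
    have hodd : Nat.Coprime (1 + a * y) 2 := by
      rw [Nat.coprime_two_right, Nat.odd_iff]
      rw [Nat.odd_iff] at ho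
      have : (a * y) % 2 = 0 := by rw [Nat.mul_mod, show y % 2 = 0 by omega, mul_zero, Nat.zero_mod]
      omega
    have hdvd : 1 + a * y ∣ 2 * (y + 1) * a := ⟨d, by rw [← e]; ring⟩
    have h2 : 1 + a * y ∣ y + 1 := hodd.dvd_of_dvd_mul_left (hcop.dvd_of_dvd_mul_right hdvd)
    have h3 := Nat.le_of_dvd (by omega) h2
    have ha1 : a = 1 := by
      by_contra hne
      have : 2 * y ≤ a * y := Nat.mul_le_mul_right y (by omega)
      omega
    subst ha1
    exact ⟨rfl, by omega⟩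

theorem arith_two {G X s z a c₁ c₂ t₁ t₂ c₀ : ℕ} (hG : G = X * (s * z)) (hX : X = 1 + a * s) (ha : 1 ≤ a)
    (hz : 7 ≤ z) (ho : Odd z) (hs : s = (z + 1) ^ 2) (h0 : c₀ * (2 * z) = G * (z - 1))
    (h1 : c₁ * (4 * t₁) = G * (t₁ - 1)) (h2 : c₂ * (4 * t₂) = G * (t₂ - 1)) (ht₁ : 5 ≤ t₁) (ht₂ : 5 ≤ t₂)
    (hr : 2 * z * (c₁ + c₂) = G * (z - 1) + 2 * z * (a * s))
    (hp : X * z * ((X - 1) * z) = c₀ * z + c₁ * t₁ + c₂ * t₂) : a = 1 := by
  obtain ⟨y, rfl⟩ : ∃ y, z = y + 1 := ⟨z - 1, by omega⟩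
  obtain ⟨u, rfl⟩ : ∃ u, t₁ = u + 1 := ⟨t₁ - 1, by omega⟩
  obtain ⟨v, rfl⟩ : ∃ v, t₂ = v + 1 := ⟨t₂ - 1, by omega⟩
  rw [Nat.add_sub_cancel] at h0 h1 h2 hr
  have hG0 : (G : ℤ) ≠ 0 := by
    have : 0 < G := by subst hG hX hs; positivity
    exact_mod_cast this.ne'
  have hX1 : X - 1 = a * s := by omega
  rw [hX1] at hp
  zify at hG hX hs h0 h1 h2 hr hp
  obtain ⟨S, hS⟩ : ∃ S : ℤ, S = (u : ℤ) + v + 2 := ⟨_, rfl⟩
  obtain ⟨P, hP⟩ : ∃ P : ℤ, P = ((u : ℤ) + 1) * (v + 1) := ⟨_, rfl⟩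
  have hsum : 4 * ((y : ℤ) + 1) * a = 2 * y + (S - 2) := by
    refine mul_left_cancel₀ hG0 ?_
    rw [hG, hS] at *
    linear_combination 4 * hp + 2 * h0 + h1 + h2
  have hprod : P * (2 * (X : ℤ) - 4 * a) = ((y : ℤ) + 1) * X * S := by
    have e : (2 * ((y : ℤ) + 1)) * (G * (u * (v + 1) + v * (u + 1))) =
        4 * P * (G * y + 2 * (y + 1) * (a * s)) := by
      rw [← hr, hP]; linear_combination (2 * ((y : ℤ) + 1) * (v + 1)) * (-h1) + (2 * ((y : ℤ) + 1) * (u + 1)) * (-h2)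
    have hsy : 2 * ((s : ℤ) * (y + 1)) ≠ 0 := by
      rw [hs]; positivity
    refine mul_left_cancel₀ hsy ?_
    rw [hP] at e ⊢
    rw [hS]
    rw [hG] at e
    linear_combination e
  -- integrality
  have hkey : P * ((X : ℤ) - 2 * a) = ((y : ℤ) + 1) * X * (2 * (y + 1) * a - y + 1) := by
    have hS' : S = 2 * (2 * ((y : ℤ) + 1) * a - y + 1) := by linarith
    rw [hS'] at hprod
    linarith
  obtain ⟨Q', hQ'⟩ : ∃ Q' : ℤ, Q' = (X : ℤ) - 2 * a := ⟨_, rfl⟩
  have hcop : IsCoprime Q' (X : ℤ) := by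
    have hXe : ∃ w : ℤ, (X : ℤ) = 1 + 2 * a * w := by
      obtain ⟨w, hw⟩ := ho
      refine ⟨2 * ((w : ℤ) + 1) ^ 2, ?_⟩
      rw [hX, hs, show (y : ℤ) = 2 * w by exact_mod_cast (show y = 2 * w by omega)]
      ring
    obtain ⟨w, hw⟩ := hXe
    -- Q' + 2a = X and X = 1 + 2aw
    refine ⟨w, 1 - w, ?_⟩
    rw [hQ']
    linear_combination hw
  have hdvd : Q' ∣ ((y : ℤ) + 1) * (2 * (y + 1) * a - y + 1) := by
    refine hcop.dvd_of_dvd_mul_left (z := ((y : ℤ) + 1) * (2 * (y + 1) * a - y + 1)) ?_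
    exact ⟨P, by rw [hQ'] at *; linear_combination -hkey⟩
  obtain ⟨j, hj⟩ := hdvd
  have ha' : (1 : ℤ) ≤ a := by exact_mod_cast ha
  have hy' : (6 : ℤ) ≤ y := by exact_mod_cast (by omega : 6 ≤ y)
  have hQv : Q' = 1 + a * (((y : ℤ) + 2) ^ 2 - 2) := by rw [hQ', hX, hs]; ring
  have hQpos : 0 < Q' := by rw [hQv]; nlinarith
  have hlt : ((y : ℤ) + 1) * (2 * (y + 1) * a - y + 1) < Q' * 2 := by
    have p1 : (0 : ℤ) ≤ a * (2 * y + 1) := mul_nonneg (by omega) (by omega)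
    have p2 : (0 : ℤ) ≤ ((y : ℤ) + 1) * (y - 1) := mul_nonneg (by omega) (by omega)
    rw [hQv]; linarith
  have hpos : 0 < ((y : ℤ) + 1) * (2 * (y + 1) * a - y + 1) := by
    have p1 : (0 : ℤ) ≤ 2 * ((y : ℤ) + 1) * (a - 1) := mul_nonneg (by omega) (by omega)
    exact mul_pos (by omega) (by linarith)
  have hj1 : j = 1 := by
    rw [hj] at hlt hpos
    have h1' : j < 2 := lt_of_mul_lt_mul_left hlt hQpos.le
    have h2' : 0 < j := pos_of_mul_pos_right hpos hQpos.le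
    omega
  rw [hj1, mul_one, hQv] at hj
  have : ((a : ℤ) - 1) * ((y : ℤ) ^ 2) = 0 := by linear_combination hj
  rcases mul_eq_zero.1 this with h | h
  · omega
  · exfalso
    have := eq_zero_of_pow_eq_zero h
    omega

section

variable {F : Type*} [Field F] [Fintype F] {m : ℕ} (Q : Par F m)
variable {K : Type*} [Field K] [Fintype K] {k : ℕ} (R : Par K k) (hdiv : 2 * k + 1 ∣ 2 * m + 1) {ι : K →+* F}
variable {M : Subgroup ↥(Cfsg.Sz F m)} (hN : Norm Q ι M)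

local notation "SS" => Cfsg.Sz F m
local notation "inf∞" => Cfsg.suzukiPointInfinity F

include Q R hdiv hN

theorem one_mem_cen : uu Q (0 : F) 1 ∈ M := (hN.cen_eq 1).2 ⟨1, map_one ι⟩

/-- The unipotent elements are either all central or form the subfield group. -/
theorem unip_cases :
    (∀ a b, uu Q a b ∈ M → a = 0) ∨
      ((∀ a b : K, uu Q (ι a) (ι b) ∈ M) ∧ ∀ a b, uu Q a b ∈ M → ∃ x y : K, ι x = a ∧ ι y = b) := by
  classical
  by_cases hall : ∀ a b, uu Q a b ∈ M → a = 0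
  · exact Or.inl hall
  push Not at hall
  obtain ⟨a₀, b₀, h₀, ha₀⟩ := hall
  have := charP Q
  have hroot : ∀ a b, uu Q a b ∈ M → ∃ x : K, ι x = a := by
    intro a b h
    rcases eq_or_ne a 0 with rfl | ha
    · exact ⟨0, map_zero ι⟩
    obtain ⟨x, hx⟩ := (hN.cen_eq (a ^ (2 ^ (m + 1) + 1))).1 (by rw [← uu_sq Q a b]; exact pow_mem h 2)
    have hx0 : x ≠ 0 := fun e => pow_ne_zero _ ha (by rw [← hx, e, map_zero])
    obtain ⟨t, ht⟩ := exists_s1_root R (Units.mk0 x hx0)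
    refine ⟨t, ?_⟩
    have ht0 : ι (t : K) ≠ 0 := by rw [ne_eq, map_eq_zero]; exact t.ne_zero
    have h4 : Units.mk0 (ι (t : K)) ht0 = Units.mk0 a ha := mul_inv_eq_one.1 (units_s1 Q (by
      rw [Units.val_mul, Units.val_inv_eq_inv_val, mul_pow, Units.val_mk0, Units.val_mk0, map_e1 Q R hdiv ι,
        ← Units.val_pow_eq_pow_val, ht, Units.val_mk0, hx, ← mul_pow, mul_inv_cancel₀ ha, one_pow]))
    exact congrArg Units.val h4
  obtain ⟨x₀, rfl⟩ := hroot a₀ b₀ h₀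
  have hx₀ : x₀ ≠ 0 := fun e => ha₀ (by rw [e, map_zero])
  -- a normalised element of order four
  obtain ⟨γ, hγ⟩ : ∃ γ, uu Q 1 γ ∈ M := by
    refine ⟨((Units.map ι.toMonoidHom (Units.mk0 x₀ hx₀))⁻¹ : Fˣ) ^ (2 ^ (m + 1) + 1) * b₀, ?_⟩
    have h := mul_mem (mul_mem (hN.tor (Units.mk0 x₀ hx₀)⁻¹) h₀) (inv_mem (hN.tor (Units.mk0 x₀ hx₀)⁻¹))
    rw [hI_conj, map_inv] at h
    convert h using 2
    simp [ha₀]
  have hA : ∀ a : K, uu Q (ι a) (ι a ^ (2 ^ (m + 1) + 1) * γ) ∈ M := fun a => by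
    rcases eq_or_ne a 0 with rfl | ha
    · rw [map_zero, zero_pow (Nat.succ_ne_zero _), zero_mul, uu_zero]; exact one_mem _
    have h := mul_mem (mul_mem (hN.tor (Units.mk0 a ha)) hγ) (inv_mem (hN.tor (Units.mk0 a ha)))
    rw [hI_conj, mul_one] at h
    exact h
  have hexp : ∀ a b, uu Q a b ∈ M → ∃ x y : K, ι x = a ∧ ι x ^ (2 ^ (m + 1) + 1) * γ + ι y = b := by
    intro a b h
    obtain ⟨x, rfl⟩ := hroot a b h
    have h' := mul_mem (inv_mem (hA x)) h
    have e : (uu Q (ι x) (ι x ^ (2 ^ (m + 1) + 1) * γ))⁻¹ * uu Q (ι x) b =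
        uu Q 0 (b + ι x ^ (2 ^ (m + 1) + 1) * γ) := by
      rw [inv_mul_eq_iff_eq_mul, uu_mul, mul_zero, add_zero, add_zero]
      congr 1
      rw [add_left_comm, add_self Q, add_zero]
    rw [e] at h'
    obtain ⟨y, hy⟩ := (hN.cen_eq _).1 h'
    exact ⟨x, y, rfl, by rw [hy, add_left_comm, add_self Q, add_zero]⟩
  obtain ⟨γ₀, rfl⟩ : ∃ g : K, ι g = γ := by
    obtain ⟨x, hx⟩ := exists_s_ne R
    have h := mul_mem (hA x) hγ
    rw [uu_mul, mul_one, map_e Q R hdiv ι] at h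
    obtain ⟨a, b, e1, e2⟩ := hexp _ _ h
    have hx' : x ^ (2 ^ (k + 1)) + x ≠ 0 := fun h => hx ((eq_neg_of_add_eq_zero_left h).trans (neg_eq R x))
    refine ⟨(b + x ^ (2 ^ (k + 1))) / (x ^ (2 ^ (k + 1)) + x), ?_⟩
    have hd : ι (x ^ (2 ^ (k + 1))) + ι x ≠ 0 := by
      rw [← map_add, ne_eq, map_eq_zero]; exact hx'
    rw [map_div₀, map_add, map_add, div_eq_iff hd]
    rw [e1, pow_succ (ι x + 1), add_pow_s Q, one_pow, map_e Q R hdiv ι, pow_succ (ι x), map_e Q R hdiv ι] at e2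
    have h2 : (2 : F) = 0 := CharP.cast_eq_zero F 2
    linear_combination e2 - (γ * ι (x ^ (2 ^ (k + 1))) + γ * ι x) * h2 + ι (x ^ (2 ^ (k + 1))) * h2
  refine Or.inr ⟨fun a b => ?_, fun a b h => ?_⟩
  · have h := mul_mem (hA a) ((hN.cen_eq _).2 ⟨b - a ^ (2 ^ (k + 1) + 1) * γ₀, rfl⟩)
    rw [uu_mul, mul_zero, add_zero, add_zero] at h
    convert h using 2
    rw [map_sub, map_mul, map_e1 Q R hdiv ι]
    ring
  · obtain ⟨x, y, rfl, rfl⟩ := hexp a b h
    exact ⟨x, x ^ (2 ^ (k + 1) + 1) * γ₀ + y, rfl, by rw [map_add, map_mul, map_e1 Q R hdiv ι]⟩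

/-- The unipotent part. -/
abbrev unip (M : Subgroup ↥(Cfsg.Sz F m)) : Subgroup M := (uSub Q).subgroupOf M

omit hN in
/-- The points moved to by a subgroup. -/
abbrev omg (M : Subgroup ↥(Cfsg.Sz F m)) : Set (Cfsg.suzukiOvoid F m) :=
  MulAction.orbit M (⟨inf∞, inf_mem m⟩ : Cfsg.suzukiOvoid F m)

theorem mem_omg {g : Cfsg.Sz F m} (hg : g ∈ M) :
    (⟨g.1 • inf∞, smul_ovoid Q g.2 (inf_mem m)⟩ : Cfsg.suzukiOvoid F m) ∈ omg M :=
  ⟨⟨g, hg⟩, rfl⟩

theorem exists_of_omg {p : Cfsg.suzukiOvoid F m} (hp : p ∈ omg M) : ∃ g : M, g.1.1 • inf∞ = p.1 := by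
  obtain ⟨g, hg⟩ := hp
  exact ⟨g, congrArg Subtype.val hg⟩

theorem card_unip : Nat.card (unip Q M) = 2 ^ (2 * k + 1) ∧ (∀ a b, uu Q a b ∈ M → a = 0) ∨
    Nat.card (unip Q M) = (2 ^ (2 * k + 1)) ^ 2 ∧ (∀ a b : K, uu Q (ι a) (ι b) ∈ M) := by
  classical
  rcases unip_cases Q R hdiv hN with h | ⟨h1, h2⟩
  · refine Or.inl ⟨?_, h⟩
    let f : K → unip Q M := fun x => ⟨⟨uu Q 0 (ι x), (hN.cen_eq _).2 ⟨x, rfl⟩⟩, uu_mem Q _ _⟩
    rw [← Nat.card_eq_of_bijective f ⟨fun x y e =>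
      ι.injective (uu_inj Q (congrArg (fun z : unip Q M => z.1.1) e)).2, fun u => ?_⟩,
      Nat.card_eq_fintype_card, R.hF]
    obtain ⟨a, b, e0⟩ := exists_uu Q u.2
    have e : u.1.1 = uu Q a b := e0
    obtain rfl := h a b (e ▸ u.1.2)
    obtain ⟨x, rfl⟩ := (hN.cen_eq b).1 (e ▸ u.1.2)
    exact ⟨x, Subtype.ext (Subtype.ext e.symm)⟩
  · refine Or.inr ⟨?_, h1⟩
    let f : K × K → unip Q M := fun p => ⟨⟨uu Q (ι p.1) (ι p.2), h1 _ _⟩, uu_mem Q _ _⟩
    rw [← Nat.card_eq_of_bijective f ⟨fun x y e => by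
      obtain ⟨e1, e2⟩ := uu_inj Q (congrArg (fun z : unip Q M => z.1.1) e)
      exact Prod.ext (ι.injective e1) (ι.injective e2), fun u => ?_⟩,
      Nat.card_prod, Nat.card_eq_fintype_card, R.hF, pow_two]
    obtain ⟨a, b, e0⟩ := exists_uu Q u.2
    have e : u.1.1 = uu Q a b := e0
    obtain ⟨x, y, rfl, rfl⟩ := h2 a b (e ▸ u.1.2)
    exact ⟨(x, y), Subtype.ext (Subtype.ext e.symm)⟩

theorem card_eq : Nat.card M = Nat.card (omg M) * (Nat.card (unip Q M) * Nat.card Kˣ) := by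
  classical
  rw [← Nat.card_congr (MulAction.orbitProdStabilizerEquivGroup M (⟨inf∞, inf_mem m⟩ : Cfsg.suzukiOvoid F m)),
    Nat.card_prod]
  congr 1
  let f : unip Q M × Kˣ → MulAction.stabilizer M (⟨inf∞, inf_mem m⟩ : Cfsg.suzukiOvoid F m) := fun p =>
    ⟨p.1.1 * ⟨_, hN.tor p.2⟩, Subtype.ext (by
      show (p.1.1.1.1 * H m _) • inf∞ = inf∞
      obtain ⟨a, b, e⟩ := p.1.2
      rw [mul_smul, H_inf, show p.1.1.1.1 = T m a b from e, T_inf])⟩
  rw [← Nat.card_prod]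
  refine (Nat.card_eq_of_bijective f ⟨fun x y e => ?_, fun g => ?_⟩).symm
  · have e' : x.1.1.1 * hI Q (Units.map ι.toMonoidHom x.2) = y.1.1.1 * hI Q (Units.map ι.toMonoidHom y.2) :=
      congrArg (fun z => z.1.1) e
    have h3 : hI Q (Units.map ι.toMonoidHom x.2 * (Units.map ι.toMonoidHom y.2)⁻¹) = (x.1.1.1)⁻¹ * y.1.1.1 := by
      show hHom Q _ = _
      rw [map_mul (hHom Q), map_inv (hHom Q), eq_inv_mul_iff_mul_eq, ← mul_assoc, mul_inv_eq_iff_eq_mul]
      exact e'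
    have h4 : Units.map ι.toMonoidHom x.2 = Units.map ι.toMonoidHom y.2 := by
      by_contra hne
      refine semi_hI Q (fun e => hne (mul_inv_eq_one.1 e)) 1 ?_
      rw [one_mul, inv_one, mul_one, h3]
      exact mul_mem (inv_mem x.1.2) y.1.2
    have h5 := Units.map_injective (f := ι.toMonoidHom) ι.injective h4
    rw [h5] at e'
    exact Prod.ext (Subtype.ext (Subtype.ext (mul_right_cancel e'))) h5
  · obtain ⟨a, b, l, e⟩ := exists_uh Q (g := g.1.1) (congrArg Subtype.val g.2)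
    obtain ⟨t, rfl⟩ := hN.lam_le a b l (e ▸ g.1.2)
    refine ⟨(⟨⟨uu Q a b, ?_⟩, uu_mem Q a b⟩, t), Subtype.ext (Subtype.ext e.symm)⟩
    have h := mul_mem g.1.2 (inv_mem (hN.tor t))
    rwa [e, mul_inv_cancel_right] at h

theorem exists_count : ∃ a, 1 ≤ a ∧ Nat.card (omg M) = 1 + a * Nat.card (unip Q M) := by
  classical
  let pi : Cfsg.suzukiOvoid F m := ⟨inf∞, inf_mem m⟩
  let α := {p : omg M // p.1 ≠ pi}
  have hfix : ∀ u : unip Q M, (u.1.1 : SS).1 • inf∞ = inf∞ := fun u => by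
    obtain ⟨a, b, e⟩ := u.2
    rw [show u.1.1.1 = T m a b from e, T_inf]
  let act : MulAction (unip Q M) α :=
    { smul := fun u p => ⟨u.1 • p.1, fun e => p.2 (Subtype.ext (MulAction.injective u.1.1.1
        ((congrArg Subtype.val e).trans (hfix u).symm)))⟩
      one_smul := fun p => Subtype.ext (one_smul M p.1)
      mul_smul := fun u v p => Subtype.ext (mul_smul u.1 v.1 p.1) }
  have hstab : ∀ p : α, MulAction.stabilizer (unip Q M) p = ⊥ := fun p => by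
    rw [eq_bot_iff]
    intro u hu
    obtain ⟨a, b, e⟩ := exists_uu Q u.2
    have hp : (u.1.1).1 • p.1.1.1 = p.1.1.1 :=
      congrArg (fun q : α => q.1.1.1) (show u • p = p from hu)
    rw [show u.1.1 = uu Q a b from e] at hp
    by_contra hne
    refine p.2 (Subtype.ext (fixes_only Q (fun hab => hne ?_) p.1.1.2 hp))
    refine Subgroup.mem_bot.2 (Subtype.ext (Subtype.ext ?_))
    rw [show u.1.1 = uu Q a b from e, hab.1, hab.2, uu_zero]; rfl
  have hcard : Nat.card α = Nat.card (MulAction.orbitRel.Quotient (unip Q M) α) * Nat.card (unip Q M) := by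
    rw [Nat.card_congr (MulAction.selfEquivSigmaOrbitsQuotientStabilizer (unip Q M) α),
      ← Nat.card_prod]
    refine Nat.card_congr ((Equiv.sigmaCongrRight fun q => ?_).trans (Equiv.sigmaEquivProd _ _))
    rw [hstab]
    exact (QuotientGroup.quotientBot (G := unip Q M)).toEquiv
  refine ⟨Nat.card (MulAction.orbitRel.Quotient (unip Q M) α), ?_, ?_⟩
  · obtain ⟨g, hg, hne⟩ := hN.move
    have : Nonempty α := ⟨⟨⟨_, mem_omg Q R hdiv hN hg⟩, fun e => hne (congrArg Subtype.val e)⟩⟩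
    have : Nonempty (MulAction.orbitRel.Quotient (unip Q M) α) := Nonempty.map Quotient.mk'' this
    exact Nat.card_pos
  · rw [← hcard]
    have hpi : pi ∈ omg M := MulAction.mem_orbit_self _
    let : Fintype (omg M) := Fintype.ofFinite _
    have : Nat.card {p : omg M // p ≠ (⟨pi, hpi⟩ : omg M)} = Nat.card α :=
      Nat.card_congr (Equiv.subtypeEquivRight fun p => not_congr Subtype.ext_iff)
    rw [← this, ← Nat.card_congr (Equiv.optionSubtypeNe (⟨pi, hpi⟩ : omg M)), Finite.card_option, add_comm]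

/-- Nontrivial elements conjugate into the unipotent group fix a point of the orbit. -/
theorem exists_point {g : M} (hg : g ≠ 1) (hn : ¬ SemiIn Q M g) :
    ∃ y : M, (y⁻¹ * g * y) ∈ unip Q M := by
  simp only [SemiIn, Semi, not_forall, not_not] at hn
  obtain ⟨c, hc⟩ := hn
  obtain ⟨a, b, e⟩ := exists_uu Q hc
  have hne : ¬(a = 0 ∧ b = 0) := fun ⟨ha, hb⟩ => hg (by
    rw [ha, hb, uu_zero, mul_inv_eq_one, mul_eq_left] at e
    exact Subtype.ext e)
  have hfixp : g.1.1 • c.1⁻¹ • inf∞ = c.1⁻¹ • inf∞ := by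
    have h : (c.1 * g.1.1 * c.1⁻¹) • inf∞ = inf∞ := by
      have e' : c.1 * g.1.1 * c.1⁻¹ = T m a b := congrArg Subtype.val e
      rw [e', T_inf]
    rw [mul_smul, mul_smul, ← eq_inv_smul_iff] at h
    exact h
  -- an involution among the powers
  have h4 : g.1 ^ 4 = 1 := by
    have h := uu_four Q a b
    rw [← e, conj_pow, mul_inv_eq_one, mul_eq_left] at h
    exact h
  obtain ⟨i, hiM, hi, hifix⟩ : ∃ i, i ∈ M ∧ orderOf i = 2 ∧ i.1 • c.1⁻¹ • inf∞ = c.1⁻¹ • inf∞ := by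
    by_cases h2 : g.1 ^ 2 = 1
    · exact ⟨g.1, g.2, orderOf_eq_prime h2 (fun e => hg (Subtype.ext e)), hfixp⟩
    · refine ⟨g.1 ^ 2, pow_mem g.2 2, orderOf_eq_prime (by rw [← pow_mul]; exact h4) h2, ?_⟩
      rw [pow_two, Subgroup.coe_mul, mul_smul, hfixp, hfixp]
  obtain ⟨y, hy, ey⟩ := all_conj Q one_ne_zero (one_mem_cen Q R hdiv hN) hN.move hiM hi
  have hyp : y.1 • inf∞ = c.1⁻¹ • inf∞ := by
    obtain ⟨p, hp, -, hu⟩ := inv_point Q hi
    rw [hu _ (smul_ovoid Q y.2 (inf_mem m)) (by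
      rw [← ey]
      show (y.1 * (uu Q 0 1).1 * y.1⁻¹) • y.1 • inf∞ = y.1 • inf∞
      rw [mul_smul, mul_smul, inv_smul_smul, show (uu Q (0 : F) 1).1 • inf∞ = inf∞ from T_inf m 0 1])]
    exact (hu _ (smul_ovoid Q (inv_mem c.2) (inf_mem m)) hifix).symm
  refine ⟨⟨y, hy⟩, ?_⟩
  show y⁻¹ * g.1 * y ∈ uSub Q
  have hcy : (c * y).1 • inf∞ = inf∞ := by rw [Subgroup.coe_mul, mul_smul, hyp, smul_inv_smul]
  have hcy' : ((c * y)⁻¹).1 • inf∞ = inf∞ := by
    rw [Subgroup.coe_inv, inv_smul_eq_iff]; exact hcy.symm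
  have h := conj_of_fix Q hcy' hc
  rwa [show (c * y)⁻¹ * (c * g.1 * c⁻¹) * (c * y)⁻¹⁻¹ = y⁻¹ * g.1 * y by group] at h

theorem card_nonsemi :
    Nat.card {g : M // g ≠ 1 ∧ ¬ SemiIn Q M g} = Nat.card (omg M) * (Nat.card (unip Q M) - 1) := by
  classical
  choose y hy using fun p : omg M => exists_of_omg Q R hdiv hN p.2
  have hsemi : ∀ (c : M) (u : unip Q M), ¬ SemiIn Q M (c * u.1 * c⁻¹) := fun c u h => h c.1⁻¹ (by
    show c.1⁻¹ * (c.1 * u.1.1 * c.1⁻¹) * c.1⁻¹⁻¹ ∈ uSub Q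
    rw [show c.1⁻¹ * (c.1 * u.1.1 * c.1⁻¹) * c.1⁻¹⁻¹ = u.1.1 by group]
    exact u.2)
  let f : omg M × {u : unip Q M // u ≠ 1} → {g : M // g ≠ 1 ∧ ¬ SemiIn Q M g} := fun z =>
    ⟨y z.1 * z.2.1.1 * (y z.1)⁻¹, fun e => z.2.2 (Subtype.ext (by rwa [mul_inv_eq_one, mul_eq_left] at e)),
      hsemi _ _⟩
  have hf : Function.Bijective f := by
    refine ⟨fun ⟨p, u⟩ ⟨p', u'⟩ e => ?_, fun ⟨g, hg1, hg⟩ => ?_⟩
    · have e' : (y p).1 * u.1.1.1 * (y p).1⁻¹ = (y p').1 * u'.1.1.1 * (y p').1⁻¹ :=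
        congrArg (fun z => z.1.1) e
      have hne : u.1.1.1 ≠ 1 := fun h => u.2 (Subtype.ext (Subtype.ext h))
      have h1 : ((y p').1⁻¹ * (y p).1).1 • inf∞ = inf∞ := ti Q u.1.2 hne (by
        show (y p').1⁻¹ * (y p).1 * u.1.1.1 * ((y p').1⁻¹ * (y p).1)⁻¹ ∈ uSub Q
        rw [show (y p').1⁻¹ * (y p).1 * u.1.1.1 * ((y p').1⁻¹ * (y p).1)⁻¹ =
          (y p').1⁻¹ * ((y p).1 * u.1.1.1 * (y p).1⁻¹) * (y p').1 by group, e']
        rw [show (y p').1⁻¹ * ((y p').1 * u'.1.1.1 * (y p').1⁻¹) * (y p').1 = u'.1.1.1 by group]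
        exact u'.1.2)
      have hpp : p = p' := by
        refine Subtype.ext (Subtype.ext ?_)
        rw [← hy p, ← hy p']
        rw [Subgroup.coe_mul, Subgroup.coe_inv, mul_smul, inv_smul_eq_iff] at h1
        exact h1
      subst hpp
      exact Prod.ext rfl (Subtype.ext (Subtype.ext (Subtype.ext (mul_left_cancel (mul_right_cancel e')))))
    · obtain ⟨c, hc⟩ := exists_point Q R hdiv hN hg1 hg
      let p : omg M := ⟨_, mem_omg Q R hdiv hN c.2⟩
      have hu : (y p)⁻¹ * g * y p ∈ unip Q M := by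
        have h1 : ((y p).1⁻¹ * c.1).1 • inf∞ = inf∞ := by
          rw [Subgroup.coe_mul, Subgroup.coe_inv, mul_smul, inv_smul_eq_iff]; exact (hy p).symm
        show (y p).1⁻¹ * g.1 * (y p).1 ∈ uSub Q
        have h := conj_of_fix Q h1 (show c.1⁻¹ * g.1 * c.1 ∈ uSub Q from hc)
        rwa [show (y p).1⁻¹ * c.1 * (c.1⁻¹ * g.1 * c.1) * ((y p).1⁻¹ * c.1)⁻¹ = (y p).1⁻¹ * g.1 * (y p).1 by
          group] at h
      refine ⟨(p, ⟨⟨_, hu⟩, fun e => hg1 ?_⟩), Subtype.ext ?_⟩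
      · have e' : (y p)⁻¹ * g * y p = 1 := congrArg Subtype.val e
        rw [show g = y p * ((y p)⁻¹ * g * y p) * (y p)⁻¹ by group, e']; group
      · show y p * ((y p)⁻¹ * g * y p) * (y p)⁻¹ = g
        group
  let : Fintype (unip Q M) := Fintype.ofFinite _
  rw [← Nat.card_eq_of_bijective f hf, Nat.card_prod]
  congr 1
  simp [Nat.card_eq_fintype_card]

theorem card_semi :
    Nat.card {g : M // SemiIn Q M g} + 1 + Nat.card (omg M) * (Nat.card (unip Q M) - 1) = Nat.card M := by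
  classical
  let : Fintype M := Fintype.ofFinite _
  rw [← card_nonsemi Q R hdiv hN, Nat.card_eq_fintype_card, Nat.card_eq_fintype_card, Nat.card_eq_fintype_card,
    Fintype.card_subtype, Fintype.card_subtype]
  have h1 : (Finset.univ.filter fun g : M => ¬ SemiIn Q M g) =
      insert 1 (Finset.univ.filter fun g : M => g ≠ 1 ∧ ¬ SemiIn Q M g) := by
    ext g
    simp only [Finset.mem_filter, Finset.mem_univ, true_and, Finset.mem_insert]
    constructor
    · intro h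
      rcases eq_or_ne g 1 with e | e
      · exact Or.inl e
      · exact Or.inr ⟨e, h⟩
    · rintro (rfl | ⟨-, h⟩)
      · exact fun h => (family Q M).ne_one _ h rfl
      · exact h
  have h2 := Finset.card_filter_add_card_filter_not (s := (Finset.univ : Finset M)) (fun g => SemiIn Q M g)
  rw [h1, Finset.card_insert_of_notMem (by simp), Finset.card_univ] at h2
  omega

theorem card_pairs_count :
    Nat.card {p : M × M // orderOf p.1 = 2 ∧ orderOf p.2 = 2 ∧ SemiIn Q M (p.1 * p.2)} =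
      Nat.card (omg M) * Nat.card Kˣ * ((Nat.card (omg M) - 1) * Nat.card Kˣ) := by
  classical
  choose y hy using fun p : omg M => exists_of_omg Q R hdiv hN p.2
  let inv : omg M → Kˣ → M := fun p t => y p * ⟨uu Q 0 (ι t), (hN.cen_eq _).2 ⟨_, rfl⟩⟩ * (y p)⁻¹
  have hval : ∀ p t, (inv p t).1 = (y p).1 * uu Q 0 (ι (t : K)) * (y p).1⁻¹ := fun p t => rfl
  have hne : ∀ t : Kˣ, ι (t : K) ≠ 0 := fun t => by rw [ne_eq, map_eq_zero]; exact t.ne_zero
  have h2 : ∀ p t, orderOf (inv p t) = 2 := fun p t => by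
    rw [← Subgroup.orderOf_coe, hval, show (y p).1 * uu Q 0 (ι (t : K)) * (y p).1⁻¹ = MulAut.conj (y p).1 (uu Q 0 (ι (t : K))) from rfl,
      orderOf_injective (MulAut.conj (y p).1).toMonoidHom (MulAut.conj (y p).1).injective (uu Q 0 (ι (t : K))) |> fun e =>
        show orderOf (MulAut.conj (y p).1 (uu Q 0 (ι (t : K)))) = orderOf (uu Q 0 (ι (t : K))) from e,
      orderOf_uu_zero Q (hne t)]
  have hfx : ∀ p t, (inv p t).1.1 • p.1.1 = p.1.1 := fun p t => by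
    rw [hval, Subgroup.coe_mul, Subgroup.coe_mul, Subgroup.coe_inv, ← hy p, mul_smul, mul_smul, inv_smul_smul,
      show (uu Q (0 : F) (ι (t : K))).1 • inf∞ = inf∞ from T_inf m _ _]
  have huniq : ∀ p p' t, (inv p t).1.1 • p'.1.1 = p'.1.1 → p' = (p : omg M) := fun p p' t h => by
    obtain ⟨r, -, -, hu⟩ := inv_point Q (i := (inv p t).1) (by rw [Subgroup.orderOf_coe]; exact h2 p t)
    exact Subtype.ext (Subtype.ext ((hu _ p'.1.2 h).trans (hu _ p.1.2 (hfx p t)).symm))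
  have hsurj : ∀ i : M, orderOf i = 2 → ∃ p t, inv p t = i := by
    intro i hi
    obtain ⟨c, hc, ec⟩ := all_conj Q one_ne_zero (one_mem_cen Q R hdiv hN) hN.move i.2
      (by rw [Subgroup.orderOf_coe]; exact hi)
    let p : omg M := ⟨_, mem_omg Q R hdiv hN hc⟩
    obtain ⟨b, hb, e⟩ := inv_at_inf Q (i := (y p).1⁻¹ * i.1 * (y p).1) (by
      rw [show (y p).1⁻¹ * i.1 * (y p).1 = MulAut.conj (y p).1⁻¹ i.1 by simp,
        orderOf_injective (MulAut.conj (y p).1⁻¹).toMonoidHom (MulAut.conj (y p).1⁻¹).injective i.1 |> fun e =>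
          show orderOf (MulAut.conj (y p).1⁻¹ i.1) = orderOf i.1 from e, Subgroup.orderOf_coe, hi]) (by
      rw [Subgroup.coe_mul, Subgroup.coe_mul, Subgroup.coe_inv, mul_smul, mul_smul, hy p, ← hy p,
        inv_smul_eq_iff, hy p]
      show i.1.1 • c.1 • inf∞ = c.1 • inf∞
      rw [← ec, Subgroup.coe_mul, Subgroup.coe_mul, Subgroup.coe_inv, mul_smul, mul_smul, inv_smul_smul,
        show (uu Q (0 : F) 1).1 • inf∞ = inf∞ from T_inf m _ _])
    obtain ⟨x, rfl⟩ := (hN.cen_eq b).1 (e ▸ mul_mem (mul_mem (inv_mem (y p).2) i.2) (y p).2)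
    refine ⟨p, Units.mk0 x (fun h => hb (by rw [h, map_zero])), Subtype.ext ?_⟩
    rw [hval, Units.val_mk0, ← e]; group
  have hinj : ∀ p t p' t', inv p t = inv p' t' → p = p' ∧ t = t' := by
    intro p t p' t' e
    obtain rfl := huniq p p' t (e ▸ hfx p' t')
    have e' : (y p').1 * uu Q 0 (ι (t : K)) * (y p').1⁻¹ = (y p').1 * uu Q 0 (ι (t' : K)) * (y p').1⁻¹ := by
      rw [← hval, ← hval, e]
    exact ⟨rfl, Units.ext (ι.injective (uu_inj Q (mul_left_cancel (mul_right_cancel e'))).2)⟩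
  have hse : ∀ p t p' t', SemiIn Q M (inv p t * inv p' t') ↔ p ≠ p' := by
    intro p t p' t'
    constructor
    · rintro h rfl
      refine h (y p).1⁻¹ ?_
      rw [Subgroup.coe_mul, hval, hval,
        show (y p).1⁻¹ * ((y p).1 * uu Q 0 (ι (t : K)) * (y p).1⁻¹ * ((y p).1 * uu Q 0 (ι (t' : K)) * (y p).1⁻¹)) * (y p).1⁻¹⁻¹ =
          uu Q 0 (ι (t : K)) * uu Q 0 (ι (t' : K)) by group]
      exact mul_mem (uu_mem Q _ _) (uu_mem Q _ _)
    · intro hpp c hc
      obtain ⟨a, b, e⟩ := exists_uu Q hc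
      have hii : ∀ p t, (inv p t).1 * (inv p t).1 = 1 := fun p t => by
        rw [← pow_two, ← (show orderOf (inv p t).1 = 2 by rw [Subgroup.orderOf_coe]; exact h2 p t)]
        exact pow_orderOf_eq_one _
      obtain ⟨x, hx⟩ : ∃ x, x = (inv p t).1 * (inv p' t').1 := ⟨_, rfl⟩
      rw [Subgroup.coe_mul, ← hx] at e
      have hi1 : ∀ p t, (inv p t).1⁻¹ = (inv p t).1 := fun p t => inv_eq_of_mul_eq_one_right (hii p t)
      have hx1 : x ≠ 1 := fun h => hpp (hinj p t p' t' (Subtype.ext (by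
        rw [hx, mul_eq_one_iff_eq_inv, hi1] at h; exact h))).1
      have hnab : ¬(a = 0 ∧ b = 0) := fun ⟨ha, hb⟩ => hx1 (by
        rwa [ha, hb, uu_zero, mul_inv_eq_one, mul_eq_left] at e)
      have hxf : ∀ q ∈ Cfsg.suzukiOvoid F m, x.1 • q = q → q = c.1⁻¹ • inf∞ := fun q hq h => by
        rw [eq_inv_smul_iff]
        refine fixes_only Q hnab (smul_ovoid Q c.2 hq) ?_
        rw [show T m a b = (c * x * c⁻¹).1 by rw [e]; rfl]
        show (c.1 * x.1 * c.1⁻¹) • c.1 • q = c.1 • q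
        rw [mul_smul, mul_smul, inv_smul_smul, h]
      have hxp0 : x.1 • c.1⁻¹ • inf∞ = c.1⁻¹ • inf∞ := by
        have h : (c.1 * x.1 * c.1⁻¹) • inf∞ = inf∞ := by
          rw [show c.1 * x.1 * c.1⁻¹ = T m a b from congrArg Subtype.val e, T_inf]
        rw [mul_smul, mul_smul, ← eq_inv_smul_iff] at h
        exact h
      have hq : c.1⁻¹ • inf∞ ∈ Cfsg.suzukiOvoid F m := smul_ovoid Q (inv_mem c.2) (inf_mem m)
      have key : ∀ i : SS, i * x * i⁻¹ = x⁻¹ → i.1 • c.1⁻¹ • inf∞ = c.1⁻¹ • inf∞ := fun i hi => by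
        refine hxf _ (smul_ovoid Q i.2 hq) ?_
        have h : (i.1 * x.1 * i.1⁻¹) = x.1⁻¹ := congrArg Subtype.val hi
        have h' : x.1⁻¹ • i.1 • c.1⁻¹ • inf∞ = i.1 • c.1⁻¹ • inf∞ := by
          rw [← h, mul_smul, mul_smul, inv_smul_smul, hxp0]
        rw [inv_smul_eq_iff] at h'
        exact h'.symm
      have k1 := key (inv p t).1 (by
        rw [hx, mul_inv_rev, hi1, hi1, ← mul_assoc, hii, one_mul])
      have k2 := key (inv p' t').1 (by
        rw [hx, mul_inv_rev, hi1, hi1, mul_assoc, mul_assoc, hii, mul_one])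
      have g1 : ∀ p t, (inv p t).1.1 • c.1⁻¹ • inf∞ = c.1⁻¹ • inf∞ → p.1.1 = c.1⁻¹ • inf∞ := fun p t h => by
        obtain ⟨r, -, -, hu⟩ := inv_point Q (i := (inv p t).1) (by rw [Subgroup.orderOf_coe]; exact h2 p t)
        exact (hu _ p.1.2 (hfx p t)).trans (hu _ hq h).symm
      exact hpp (Subtype.ext (Subtype.ext ((g1 p t k1).trans (g1 p' t' k2).symm)))
  let A := {p : omg M × omg M // p.1 ≠ p.2}
  let f : A × (Kˣ × Kˣ) → {p : M × M // orderOf p.1 = 2 ∧ orderOf p.2 = 2 ∧ SemiIn Q M (p.1 * p.2)} := fun z =>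
    ⟨(inv z.1.1.1 z.2.1, inv z.1.1.2 z.2.2), h2 _ _, h2 _ _, (hse _ _ _ _).2 z.1.2⟩
  have hf : Function.Bijective f := by
    refine ⟨fun z z' e => ?_, fun ⟨⟨i, j⟩, hi, hj, hij⟩ => ?_⟩
    · obtain ⟨e1, e2⟩ := Prod.mk.injEq _ _ _ _ ▸ congrArg Subtype.val e
      obtain ⟨a1, a2⟩ := hinj _ _ _ _ e1
      obtain ⟨b1, b2⟩ := hinj _ _ _ _ e2
      exact Prod.ext (Subtype.ext (Prod.ext a1 b1)) (Prod.ext a2 b2)
    · obtain ⟨p, t, rfl⟩ := hsurj i hi
      obtain ⟨p', t', rfl⟩ := hsurj j hj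
      exact ⟨(⟨(p, p'), (hse _ _ _ _).1 hij⟩, t, t'), rfl⟩
  let : Fintype (omg M) := Fintype.ofFinite _
  rw [← Nat.card_eq_of_bijective f hf, Nat.card_prod, Nat.card_prod]
  have hA : Nat.card A = Nat.card (omg M) * (Nat.card (omg M) - 1) := by
    rw [Nat.card_eq_fintype_card, Nat.card_eq_fintype_card, Fintype.card_subtype,
      show (Finset.univ.filter fun p : omg M × omg M => p.1 ≠ p.2) = Finset.univ.offDiag by
        ext p; simp [Finset.mem_offDiag],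
      Finset.offDiag_card, Finset.card_univ, Nat.mul_sub, mul_one]
  rw [hA]; ring

theorem card_cent_tor {t : Kˣ} (ht : t ≠ 1) :
    Nat.card (Subgroup.centralizer ({(⟨_, hN.tor t⟩ : M)} : Set M)) = Nat.card Kˣ := by
  have hne : Units.map ι.toMonoidHom t ≠ 1 := fun e =>
    ht (Units.map_injective (f := ι.toMonoidHom) ι.injective (e.trans (map_one _).symm))
  let f : Kˣ → Subgroup.centralizer ({(⟨_, hN.tor t⟩ : M)} : Set M) := fun s => ⟨⟨_, hN.tor s⟩, mem_cent.2 (Subtype.ext (by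
    show hHom Q _ * hHom Q _ = hHom Q _ * hHom Q _
    exact ((Commute.all s t).map ((hHom Q).comp (Units.map ι.toMonoidHom))).eq))⟩
  refine (Nat.card_eq_of_bijective f ⟨fun a b e => ?_, fun g => ?_⟩).symm
  · exact Units.map_injective (f := ι.toMonoidHom) ι.injective (hHom_injective Q (congrArg (fun z => z.1.1) e))
  · obtain ⟨l, hl⟩ := cent_hI Q hne (congrArg Subtype.val (mem_cent.1 g.2))
    have hl' : g.1.1 = uu Q 0 0 * hI Q l := by rw [uu_zero, one_mul]; exact hl.symm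
    obtain ⟨s, hs⟩ := hN.lam_le 0 0 l (hl' ▸ g.1.2)
    exact ⟨s, Subtype.ext (Subtype.ext (by show hI Q _ = g.1.1; rw [hs]; exact hl))⟩

theorem weyl_ne_four (h0 : ∀ a b, uu Q a b ∈ M → a = 0) {g : M} (hg : SemiIn Q M g) :
    Nat.card (Subgroup.normalizer (Subgroup.centralizer ({g} : Set M) : Set M)) ≠
      4 * Nat.card (Subgroup.centralizer ({g} : Set M)) := by
  classical
  intro hcard
  have : Fact (Nat.Prime 2) := ⟨Nat.prime_two⟩
  set N := Subgroup.normalizer (Subgroup.centralizer ({g} : Set M) : Set M)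
  obtain ⟨V, hV⟩ := Sylow.exists_subgroup_card_pow_prime (G := N) 2 (n := 2) (hcard ▸ dvd_mul_right _ _)
  have hord : ∀ v : V, v ≠ 1 → orderOf (v.1.1 : M) = 2 := by
    intro v hv
    have hv4 : (v.1.1 : M) ^ 4 = 1 := by
      have h : v ^ 4 = 1 := by
        have h := pow_card_eq_one' (x := v)
        rwa [hV] at h
      simpa using congrArg (fun z : V => (z.1.1 : M)) h
    have hv1 : (v.1.1 : M) ≠ 1 := fun e => hv (Subtype.ext (Subtype.ext e))
    have hns : ¬ SemiIn Q M v.1.1 := fun h => by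
      have hd : orderOf (v.1.1 : M) ∣ 2 ^ 2 := orderOf_dvd_of_pow_eq_one hv4
      obtain ⟨j, -, hj⟩ := (Nat.dvd_prime_pow Nat.prime_two).1 hd
      have hj0 : j ≠ 0 := fun e => hv1 (orderOf_eq_one_iff.1 (by rw [hj, e, pow_zero]))
      have h2 : 2 ∣ Nat.card (Subgroup.centralizer ({(v.1.1 : M)} : Set M)) :=
        (hj ▸ dvd_pow_self 2 hj0).trans (Subgroup.orderOf_dvd_natCard _ (mem_cent.2 (Commute.refl _)))
      exact Nat.not_even_iff_odd.2 ((family Q M).odd _ h) (even_iff_two_dvd.2 h2)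
    obtain ⟨y, hy⟩ := exists_point Q R hdiv hN hv1 hns
    obtain ⟨a, b, e0⟩ := exists_uu Q hy
    have e : (y⁻¹ * v.1.1 * y : M).1 = uu Q a b := e0
    obtain rfl := h0 a b (e ▸ (y⁻¹ * v.1.1 * y).2)
    refine orderOf_eq_prime ?_ hv1
    have h2 : (y⁻¹ * v.1.1 * y) ^ 2 = 1 := Subtype.ext (by
      rw [Subgroup.coe_pow, e, uu_sq, zero_pow (Nat.succ_ne_zero _), uu_zero]; rfl)
    rw [pow_two] at h2 ⊢
    have h3 : y⁻¹ * (v.1.1 * v.1.1) * y = 1 := by rw [← h2]; group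
    rw [show (v.1.1 : M) * v.1.1 = y * (y⁻¹ * (v.1.1 * v.1.1) * y) * y⁻¹ by group, h3]; group
  have hinv : ∀ v : V, v ≠ 1 → (v.1.1 : M) * g * (v.1.1 : M)⁻¹ = g⁻¹ := fun v hv =>
    (family Q M).inverts hg (hord v hv) v.1.2 ((family Q M).not_mem_of_two hg (hord v hv)) g
      (mem_cent.2 (Commute.refl g))
  have : Nontrivial V := Finite.one_lt_card_iff_nontrivial.1 (by rw [hV]; norm_num)
  obtain ⟨i, hi⟩ : ∃ i : V, i ≠ 1 := exists_ne 1
  obtain ⟨j, hj, hij⟩ : ∃ j : V, j ≠ 1 ∧ j ≠ i := by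
    by_contra hc
    push Not at hc
    let : Fintype V := Fintype.ofFinite _
    have hsub : (Finset.univ : Finset V) ⊆ {1, i} := fun j _ => by
      rcases eq_or_ne j 1 with e | e
      · simp [e]
      · simp [hc j e]
    have := (Finset.card_le_card hsub).trans Finset.card_le_two
    rw [Finset.card_univ, ← Nat.card_eq_fintype_card, hV] at this
    norm_num at this
  have hprod : i * j ≠ 1 := fun e => hij (by
    rw [← inv_eq_of_mul_eq_one_right e]
    refine (inv_eq_of_mul_eq_one_right ?_)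
    refine Subtype.ext (Subtype.ext ?_)
    show (i.1.1 : M) * i.1.1 = 1
    rw [← pow_two, ← hord i hi]; exact pow_orderOf_eq_one _)
  have h3 := hinv _ hprod
  refine (family Q M).not_self_inv hg ?_
  rw [← h3]
  show (i.1.1 : M) * j.1.1 * g * ((i.1.1 : M) * j.1.1)⁻¹ = g
  rw [show (i.1.1 : M) * j.1.1 * g * ((i.1.1 : M) * j.1.1)⁻¹ = i.1.1 * (j.1.1 * g * (j.1.1 : M)⁻¹) * (i.1.1 : M)⁻¹ by
    group, hinv j hj]
  calc (i.1.1 : M) * g⁻¹ * (i.1.1 : M)⁻¹ = ((i.1.1 : M) * g * (i.1.1 : M)⁻¹)⁻¹ := by group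
    _ = g := by rw [hinv i hi, inv_inv]

/-- The order of a normalised subgroup and an inverting involution. -/
theorem order_eq :
    (∀ a b : K, uu Q (ι a) (ι b) ∈ M) ∧ Nat.card (omg M) = (2 ^ (2 * k + 1)) ^ 2 + 1 ∧
      Nat.card M = Nat.card (Cfsg.Sz K k) ∧
      ∃ t : Kˣ, t ≠ 1 ∧ ∃ j ∈ M, orderOf j = 2 ∧
        j * hI Q (Units.map ι.toMonoidHom t) * j⁻¹ = (hI Q (Units.map ι.toMonoidHom t))⁻¹ := by
  classical
  let : Fintype M := Fintype.ofFinite _
  obtain ⟨z, hz⟩ : ∃ z, z = Nat.card Kˣ := ⟨_, rfl⟩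
  have hzv : z + 1 = 2 ^ (2 * k + 1) := by
    rw [hz, Nat.card_units, Nat.card_eq_fintype_card, R.hF]; exact Nat.sub_add_cancel Nat.one_le_two_pow
  have hz7 : 7 ≤ z := by
    have : 2 ^ 3 ≤ 2 ^ (2 * k + 1) := Nat.pow_le_pow_right two_pos (by have := R.hm; omega)
    omega
  have hzodd : Odd z := by
    rw [Nat.odd_iff]; have : 2 ∣ 2 ^ (2 * k + 1) := dvd_pow_self 2 (Nat.succ_ne_zero _); omega
  obtain ⟨a, ha, hX⟩ := exists_count Q R hdiv hN
  obtain ⟨X, hX'⟩ : ∃ X, X = Nat.card (omg M) := ⟨_, rfl⟩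
  obtain ⟨s, hs⟩ : ∃ s, s = Nat.card (unip Q M) := ⟨_, rfl⟩
  obtain ⟨G, hG'⟩ : ∃ G, G = Nat.card M := ⟨_, rfl⟩
  have hG := card_eq Q R hdiv hN
  rw [← hX', ← hs, ← hz, ← hG'] at hG
  rw [← hX', ← hs] at hX
  have hscase := card_unip Q R hdiv hN
  rw [← hs, ← hzv] at hscase
  have hs4 : 4 ≤ s := by
    rcases hscase with ⟨e, -⟩ | ⟨e, -⟩
    · omega
    · rw [e]; nlinarith
  obtain ⟨t, ht⟩ : ∃ t : Kˣ, t ≠ 1 := exists_unit_ne_one R
  obtain ⟨g₀, hg₀⟩ : ∃ g₀ : M, g₀ = ⟨_, hN.tor t⟩ := ⟨_, rfl⟩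
  have hne : Units.map ι.toMonoidHom t ≠ 1 := fun e =>
    ht (Units.map_injective (f := ι.toMonoidHom) ι.injective (e.trans (map_one _).symm))
  have hsemi₀ : SemiIn Q M g₀ := by rw [hg₀]; exact semi_hI Q hne
  have hfam := family Q M
  have hc₀card : Nat.card (Subgroup.centralizer ({g₀} : Set M)) = z := by
    rw [hg₀, hz]; exact card_cent_tor Q R hdiv hN ht
  obtain ⟨w₀, hw₀, hw₀4, hN₀⟩ := weyl_in Q M hsemi₀
  have hw₀' : w₀ = 1 ∨ w₀ = 2 := by
    have := hw₀4 ⟨1, Units.map ι.toMonoidHom t, hne, by rw [hg₀]; simp⟩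
    omega
  have e₀ := hfam.card_fam hsemi₀
  rw [hN₀, hc₀card, ← hG'] at e₀
  let Sem : Finset M := Finset.univ.filter fun g => SemiIn Q M g
  let Fm : M → Finset M := fun g => Finset.univ.filter fun x => x ∈ fam (SemiIn Q M) g
  have hFmcard : ∀ g, (Fm g).card = Nat.card (fam (SemiIn Q M) g) := fun g => by
    rw [Nat.card_eq_fintype_card, ← Fintype.card_subtype]
  have hFmsub : ∀ g, Fm g ⊆ Sem := fun g x hx => by
    simp only [Fm, Sem, Finset.mem_filter, Finset.mem_univ, true_and] at hx ⊢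
    exact hx.1
  have hdisj : ∀ g x, SemiIn Q M x → x ∉ Fm g → Disjoint (Fm g) (Fm x) := fun g x hx hn => by
    rw [Finset.disjoint_left]
    intro y hy hy'
    simp only [Fm, Finset.mem_filter, Finset.mem_univ, true_and] at hy hy' hn
    exact Set.disjoint_left.1 (hfam.fam_disjoint hx hn) hy hy'
  have hdata : ∀ g, SemiIn Q M g → ∃ w T, (w = 1 ∨ w = 2 ∨ w = 4) ∧ 5 ≤ T ∧
      (Fm g).card * (w * T) = G * (T - 1) ∧
      (∀ x ∈ Fm g, Nat.card (inverters x) = if 2 ∣ w then T else 0) ∧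
      (w = 4 → ¬ ∀ a b, uu Q a b ∈ M → a = 0) := by
    intro g hg
    obtain ⟨w, hw, -, hNg⟩ := weyl_in Q M hg
    have e := hfam.card_fam hg
    rw [hNg] at e
    refine ⟨w, _, hw, five_le Q M hg, by rw [hFmcard, hG']; exact e, fun x hx => ?_, fun h4 h0 => ?_⟩
    · simp only [Fm, Finset.mem_filter, Finset.mem_univ, true_and] at hx
      rw [hfam.card_inverters_fam hg hx, hfam.card_inverters hg, hNg]
      have hodd : Nat.Coprime 2 (Nat.card (Subgroup.centralizer ({g} : Set M))) :=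
        Nat.coprime_two_left.2 (hfam.odd g hg)
      simp only [hodd.dvd_mul_right]
    · exact weyl_ne_four Q R hdiv hN h0 hg (by rw [hNg, h4])
  have htot : G + X = 1 + X * s + Sem.card := by
    have h := card_semi Q R hdiv hN
    rw [← hX', ← hs, ← hG'] at h
    have e : Sem.card = Nat.card {g : M // SemiIn Q M g} := by
      rw [Nat.card_eq_fintype_card, ← Fintype.card_subtype]
    rw [← e, Nat.mul_sub, mul_one] at h
    have : X ≤ X * s := Nat.le_mul_of_pos_right _ (by omega)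
    omega
  set E := Sem \ Fm g₀ with hE
  have hEcard : Sem.card = (Fm g₀).card + E.card := by
    rw [hE, Finset.card_sdiff_of_subset (hFmsub g₀)]
    have := Finset.card_le_card (hFmsub g₀)
    omega
  have hmemE : ∀ x, x ∈ E → SemiIn Q M x ∧ x ∉ Fm g₀ := fun x hx => by
    rw [hE, Finset.mem_sdiff] at hx
    exact ⟨(Finset.mem_filter.1 hx.1).2, hx.2⟩
  have hFmE : ∀ x, x ∈ E → Fm x ⊆ E := fun x hx y hy => by
    rw [hE, Finset.mem_sdiff]
    exact ⟨hFmsub x hy, fun h => Finset.disjoint_left.1 (hdisj g₀ x (hmemE x hx).1 (hmemE x hx).2) h hy⟩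
  have hbig : 0 < E.card → G ≤ 5 * E.card := by
    intro h
    obtain ⟨x, hx⟩ := Finset.card_pos.1 h
    obtain ⟨w, T, hw, hT, e, -, -⟩ := hdata x (hmemE x hx).1
    have h1 := fam_lower hT e
    have h2 := Finset.card_le_card (hFmE x hx)
    rcases hw with rfl | rfl | rfl <;> omega
  obtain ⟨hw02, hrest⟩ := arith_split (c₀ := (Fm g₀).card) hG hX ha (by omega) hz7 (by rw [hFmcard]; exact e₀) hw₀'
    (by rw [htot, hEcard, ← add_assoc]) hbig
  subst hw02
  have hGpos : 0 < G := hG' ▸ Nat.card_pos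
  obtain ⟨g₁, hg₁⟩ : E.Nonempty := by
    rw [← Finset.card_pos]
    refine Nat.pos_of_ne_zero fun h => ?_
    rw [h] at hrest
    exact arith_none hGpos hz7 hrest
  obtain ⟨w₁, T₁, hw₁, hT₁, e₁, hp₁, hs₁⟩ := hdata g₁ (hmemE _ hg₁).1
  have hElt : 2 * E.card < G := arith_small hG hX ha hs4 hz7 hrest
  rcases (E \ Fm g₁).eq_empty_or_nonempty with hE1 | ⟨g₂, hg₂⟩
  · exfalso
    have heq : E = Fm g₁ := Finset.Subset.antisymm (Finset.sdiff_eq_empty_iff_subset.1 hE1) (hFmE _ hg₁)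
    rw [heq] at hrest
    obtain ⟨-, hlt, hXe⟩ := arith_one hG hX ha hs4 hz7 e₁ hT₁ hw₁ hrest
    have hs' : s = (z + 1) ^ 2 ∨ s = z + 1 := by
      rcases hscase with ⟨e, -⟩ | ⟨e, -⟩
      · exact Or.inr e
      · exact Or.inl e
    obtain ⟨hse, -, hXv⟩ := arith_one_false hX ha hz7 hzodd hs' hlt hXe
    have h3 : 3 ∣ Nat.card M := by
      rw [← hG', hG, hXv]
      refine Dvd.dvd.mul_right ?_ _
      have h2 : (2 : ZMod 3) ^ (2 * k + 1) = 2 := by
        rw [pow_succ, pow_mul, show (2 : ZMod 3) ^ 2 = 1 from rfl, one_pow, one_mul]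
      rw [← ZMod.natCast_eq_zero_iff, show z + 2 = 2 ^ (2 * k + 1) + 1 by omega]
      push_cast
      rw [h2]; rfl
    have h := h3.trans (Subgroup.card_subgroup_dvd_card M)
    rw [card_Sz Q] at h
    have h := (ZMod.natCast_eq_zero_iff _ _).2 h
    rw [Nat.cast_mul, Nat.cast_mul, Nat.cast_sub (Nat.one_le_pow _ _ two_pos)] at h
    push_cast at h
    have e2 : (2 : ZMod 3) ^ (2 * m + 1) = 2 := by
      rw [pow_succ, pow_mul, show (2 : ZMod 3) ^ 2 = 1 from rfl, one_pow, one_mul]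
    rw [e2] at h
    exact absurd h (by decide)
  rw [Finset.mem_sdiff] at hg₂
  obtain ⟨w₂, T₂, hw₂, hT₂, e₂, hp₂, hs₂⟩ := hdata g₂ (hmemE _ hg₂.1).1
  have hd12 := hdisj g₁ g₂ (hmemE _ hg₂.1).1 hg₂.2
  have h12 : (Fm g₁).card + (Fm g₂).card ≤ E.card := by
    rw [← Finset.card_union_of_disjoint hd12]
    exact Finset.card_le_card (Finset.union_subset (hFmE _ hg₁) (hFmE _ hg₂.1))
  have l1 := fam_lower hT₁ e₁
  have l2 := fam_lower hT₂ e₂
  have hw44 : w₁ = 4 ∧ w₂ = 4 := by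
    rcases hw₁ with rfl | rfl | rfl <;> rcases hw₂ with rfl | rfl | rfl <;> omega
  obtain ⟨rfl, rfl⟩ := hw44
  have hcover : E = Fm g₁ ∪ Fm g₂ := by
    refine (Finset.Subset.antisymm (Finset.union_subset (hFmE _ hg₁) (hFmE _ hg₂.1)) fun x hx => ?_).symm
    by_contra hn
    rw [Finset.mem_union, not_or] at hn
    obtain ⟨w₃, T₃, hw₃, hT₃, e₃, -, -⟩ := hdata x (hmemE _ hx).1
    have l3 := fam_lower hT₃ e₃
    have h123 : (Fm g₁).card + (Fm g₂).card + (Fm x).card ≤ E.card := by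
      rw [← Finset.card_union_of_disjoint hd12,
        ← Finset.card_union_of_disjoint (Finset.disjoint_union_left.2
          ⟨hdisj _ _ (hmemE _ hx).1 hn.1, hdisj _ _ (hmemE _ hx).1 hn.2⟩)]
      exact Finset.card_le_card (Finset.union_subset (Finset.union_subset (hFmE _ hg₁) (hFmE _ hg₂.1)) (hFmE _ hx))
    rcases hw₃ with rfl | rfl | rfl <;> omega
  have hsq : s = (z + 1) ^ 2 ∧ ∀ a b : K, uu Q (ι a) (ι b) ∈ M := by
    rcases hscase with ⟨-, h0⟩ | h
    · exact absurd h0 (hs₁ rfl)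
    · exact h
  have hpairs : X * z * ((X - 1) * z) = (Fm g₀).card * z + (Fm g₁).card * T₁ + (Fm g₂).card * T₂ := by
    have hc := card_pairs_count Q R hdiv hN
    rw [← hX', ← hz, hfam.card_pairs, Nat.card_sigma] at hc
    rw [← hc, ← Finset.sum_subtype (s := Sem) (fun x => by simp [Sem]) (fun x => Nat.card (inverters x)),
      show Sem = Fm g₀ ∪ E by rw [hE, Finset.union_sdiff_of_subset (hFmsub g₀)],
      Finset.sum_union (by rw [hE]; exact Finset.disjoint_sdiff), hcover, Finset.sum_union hd12,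
      Finset.sum_congr rfl hp₁, Finset.sum_congr rfl hp₂, Finset.sum_congr rfl (g := fun _ => z) (fun x hx => by
        simp only [Fm, Finset.mem_filter, Finset.mem_univ, true_and] at hx
        rw [hfam.card_inverters_fam hsemi₀ hx, hfam.card_inverters hsemi₀, hN₀, if_pos (dvd_mul_right 2 _), hc₀card])]
    norm_num [Finset.sum_const]
    ring
  have hE2 : E.card = (Fm g₁).card + (Fm g₂).card := by rw [hcover, Finset.card_union_of_disjoint hd12]
  obtain rfl := arith_two (c₀ := (Fm g₀).card) hG hX ha hz7 hzodd hsq.1 (by rw [hFmcard]; exact e₀) e₁ e₂ hT₁ hT₂ (hE2 ▸ hrest) hpairs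
  obtain ⟨i, hi, hinv⟩ : ∃ i : M, orderOf i = 2 ∧ i * g₀ * i⁻¹ = g₀⁻¹ := by
    have hc := hfam.card_inverters hsemi₀
    rw [hN₀, if_pos (dvd_mul_right 2 _), hc₀card] at hc
    obtain ⟨⟨i, hi⟩⟩ : Nonempty (inverters g₀) := (Nat.card_pos_iff.1 (by rw [hc]; omega)).1
    exact ⟨i, hi⟩
  refine ⟨hsq.2, ?_, ?_, t, ht, i.1, i.2, by rw [Subgroup.orderOf_coe]; exact hi, ?_⟩
  · rw [← hX', hX, hsq.1, hzv, one_mul, add_comm]
  · rw [← hG', hG, hX, hsq.1, one_mul, card_Sz R, hzv, show 2 ^ (2 * k + 1) - 1 = z by omega]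
    ring
  · subst hg₀
    exact congrArg Subtype.val hinv

/-- A normalised subgroup is the subfield group. -/
theorem eq_emb : M = (emb Q R hdiv ι).range := by
  classical
  obtain ⟨hU, hX, hcard, t, ht, j, hjM, hj2, hjt⟩ := order_eq Q R hdiv hN
  obtain ⟨l, hl⟩ : ∃ l, l = Units.map ι.toMonoidHom t := ⟨_, rfl⟩
  rw [← hl] at hjt
  have hl1 : l ≠ 1 := fun e =>
    ht (Units.map_injective (f := ι.toMonoidHom) ι.injective ((hl.symm.trans e).trans (map_one _).symm))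
  have hjj : j * j = 1 := by rw [← pow_two, ← hj2]; exact pow_orderOf_eq_one j
  have hfixl : H m l • j.1 • inf∞ = j.1 • inf∞ := by
    have h : j.1 * H m l * j.1⁻¹ = (H m l)⁻¹ := congrArg Subtype.val hjt
    have h' : (H m l)⁻¹ • j.1 • inf∞ = j.1 • inf∞ := by
      rw [← h, mul_smul, mul_smul, inv_smul_smul, H_inf]
    rw [inv_smul_eq_iff] at h'
    exact h'.symm
  have hj0 : j.1 • inf∞ = pt m 0 0 := by
    rcases fixed_point_hI Q hl1 (smul_ovoid Q j.2 (inf_mem m)) hfixl with e | e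
    · exfalso
      obtain ⟨b, -, rfl⟩ := inv_at_inf Q hj2 e
      have hl2 : l * l ≠ 1 := fun h => hl1 (Units.ext (by
        have h4 : ((l : F) + 1) ^ 2 = 0 := by
          rw [add_sq' Q, pow_two, ← Units.val_mul, h, Units.val_one, one_pow, add_self Q]
        exact (eq_neg_of_add_eq_zero_left (pow_eq_zero_iff two_ne_zero |>.1 h4)).trans (neg_eq Q 1)))
      refine semi_hI Q hl2 1 ?_
      have h1 : hI Q l * uu Q 0 b * (hI Q l)⁻¹ * hI Q (l * l) = uu Q 0 b := by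
        rw [show hI Q (l * l) = hI Q l * hI Q l from map_mul (hHom Q) l l]
        rw [mul_inv_eq_iff_eq_mul] at hjt
        calc hI Q l * uu Q 0 b * (hI Q l)⁻¹ * (hI Q l * hI Q l) = hI Q l * (uu Q 0 b * hI Q l) := by group
          _ = uu Q 0 b := by rw [hjt, mul_inv_cancel_left]
      rw [one_mul, inv_one, mul_one, eq_inv_mul_iff_mul_eq.2 h1]
      exact mul_mem (inv_mem (conj_of_fix Q (H_inf m l) (uu_mem Q 0 b))) (uu_mem Q 0 b)
    · exact e
  have hj00 : j.1 • pt m 0 0 = inf∞ := by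
    rw [← hj0, ← mul_smul, ← Subgroup.coe_mul, hjj, Subgroup.coe_one, one_smul]
  obtain ⟨μ, hμ⟩ := stab_pair Q (g := (wS Q * j).1) (wS Q * j).2
    (by rw [Subgroup.coe_mul, mul_smul, hj0]; exact W_zero m)
    (by rw [Subgroup.coe_mul, mul_smul, hj00]; exact W_inf m)
  have hjW : j = wS Q * hI Q μ := by
    rw [show hI Q μ = wS Q * j from Subtype.ext hμ.symm, ← mul_assoc,
      show wS Q * wS Q = 1 from Subtype.ext (W_sq Q), one_mul]
  -- the orbit consists of the subfield points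
  let g : Option (K × K) → omg M := fun o => Option.elim o ⟨⟨inf∞, inf_mem m⟩, MulAction.mem_orbit_self _⟩
    fun p => ⟨_, mem_omg Q R hdiv hN (mul_mem (hU p.1 p.2) hjM)⟩
  have hgval : ∀ x y : K, (g (some (x, y))).1.1 = pt m (ι x) (ι y) := fun x y => by
    show (uu Q (ι x) (ι y) * j).1 • inf∞ = _
    rw [Subgroup.coe_mul, mul_smul, hj0]
    show T m (ι x) (ι y) • pt m 0 0 = _
    rw [T_pt Q]; simp
  have hgb : Function.Bijective g := by
    refine (Nat.bijective_iff_injective_and_card _).2 ⟨fun o o' e => ?_, ?_⟩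
    · have e' := congrArg (fun z : omg M => z.1.1) e
      rcases o with _ | ⟨x, y⟩ <;> rcases o' with _ | ⟨x', y'⟩
      · rfl
      · rw [hgval] at e'
        exact absurd e'.symm (pt_ne_inf m _ _)
      · rw [hgval] at e'
        exact absurd e' (pt_ne_inf m _ _)
      · rw [hgval, hgval] at e'
        obtain ⟨h1, h2⟩ := pt_inj e'
        rw [ι.injective h1, ι.injective h2]
    · rw [hX, Nat.card_eq_fintype_card, Fintype.card_option, Fintype.card_prod, R.hF, pow_two]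
  obtain ⟨s, hs⟩ : ∃ s : Kˣ, Units.map ι.toMonoidHom s = μ := by
    have e : (j * uu Q (ι 0) (ι 1) * j).1 • inf∞ = pt m ((μ⁻¹ : Fˣ) : F) 0 := by
      rw [map_zero, map_one, Subgroup.coe_mul, Subgroup.coe_mul, mul_smul, mul_smul, hj0]
      show j.1 • T m (0 : F) 1 • pt m 0 0 = _
      rw [T_pt Q]
      simp only [add_zero, zero_add, zero_pow (pow_ne_zero (m + 1) two_ne_zero), mul_zero]
      rw [hjW]
      show (W F * H m μ) • pt m (0 : F) 1 = _
      have hswap : W F * H m μ = H m μ⁻¹ * W F := by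
        have := hwh Q μ
        calc W F * H m μ = (H m μ)⁻¹ * (H m μ * W F * H m μ) := by group
          _ = H m μ⁻¹ * W F := by
            rw [this, show (H m μ)⁻¹ = H m μ⁻¹ from inv_eq_of_mul_eq_one_right (by
              rw [← H_mul Q, mul_inv_cancel, H_one Q])]
      have hf : fn m (0 : F) 1 = 1 := by simp [fn]
      rw [hswap, mul_smul, W_pt Q (by rw [hf]; exact one_ne_zero), hf, H_pt Q]
      simp
    obtain ⟨o, ho⟩ := hgb.2 ⟨_, mem_omg Q R hdiv hN (mul_mem (mul_mem hjM (hU 0 1)) hjM)⟩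
    have ho' := (congrArg (fun z : omg M => z.1.1) ho).trans e
    rcases o with _ | ⟨x, y⟩
    · exact absurd ho'.symm (pt_ne_inf m _ _)
    · rw [hgval] at ho'
      obtain ⟨hx, -⟩ := pt_inj ho'
      have hx0 : x ≠ 0 := fun h0 => (μ⁻¹).ne_zero (by rw [← hx, h0, map_zero])
      exact ⟨(Units.mk0 x hx0)⁻¹, by rw [map_inv]; exact inv_eq_iff_eq_inv.2 (Units.ext (by simpa using hx))⟩
  refine (Subgroup.eq_of_le_of_card_ge (emb_range_le Q R hdiv ι hU hN.tor ?_) ?_).symm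
  · have h := mul_mem hjM (inv_mem (hN.tor s))
    rwa [hs, hjW, mul_inv_cancel_right] at h
  · rw [hcard, Nat.card_congr (MonoidHom.ofInjective (emb_injective Q R hdiv ι)).symm.toEquiv]

end

end Cfsg.Lib.Suz.Sub
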