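import Cfsg.Agent.Suz.Sub.Involutions
import Cfsg.Agent.Suz.Subfield
import Mathlib

/-!
Reduction of a subgroup of even order of a Suzuki group to standard position.
-/

set_option autoImplicit false
set_option linter.unusedSectionVars false
set_option linter.style.haveILetI false

namespace Cfsg.Lib.Suz.Sub

open Cfsg.Lib.Suz

variable {F : Type*} [Field F] [Fintype F] {m : ℕ} (Q : Par F m)

local notation "SS" => Cfsg.Sz F m
local notation "inf∞" => Cfsg.suzukiPointInfinity F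

include Q

theorem uh_fix (a b : F) (l : Fˣ) : (uu Q a b * hI Q l).1 • inf∞ = inf∞ := by
  rw [Subgroup.coe_mul, mul_smul]
  show T m a b • H m l • inf∞ = inf∞
  rw [H_inf, T_inf]

theorem uh_conj (a b : F) (l : Fˣ) (d : F) :
    (uu Q a b * hI Q l) * uu Q 0 d * (uu Q a b * hI Q l)⁻¹ = uu Q 0 ((l : F) ^ (2 ^ (m + 1) + 1) * d) := by
  rw [show (uu Q a b * hI Q l) * uu Q 0 d * (uu Q a b * hI Q l)⁻¹ =
    uu Q a b * (hI Q l * uu Q 0 d * (hI Q l)⁻¹) * (uu Q a b)⁻¹ by group, hI_conj, mul_zero, mul_inv_eq_iff_eq_mul,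
    uu_mul, uu_mul]
  simp [zero_pow (pow_ne_zero (m + 1) two_ne_zero), add_comm]

theorem exists_uh {g : Cfsg.Sz F m} (hg : g.1 • inf∞ = inf∞) : ∃ a b l, g = uu Q a b * hI Q l := by
  obtain ⟨a, b, l, e⟩ := stab_inf Q g.2 hg
  exact ⟨a, b, l, Subtype.ext e⟩

theorem uh_mul (a b c d : F) (l l' : Fˣ) : ∃ a' b',
    (uu Q a b * hI Q l) * (uu Q c d * hI Q l') = uu Q a' b' * hI Q (l * l') := by
  refine ⟨a + (l : F) * c, b + (l : F) ^ (2 ^ (m + 1) + 1) * d + a ^ (2 ^ (m + 1)) * ((l : F) * c), ?_⟩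
  rw [show (uu Q a b * hI Q l) * (uu Q c d * hI Q l') =
    uu Q a b * (hI Q l * uu Q c d * (hI Q l)⁻¹) * (hHom Q l * hHom Q l') by
      show _ = _ * _ * (hI Q l * hI Q l')
      group, hI_conj, uu_mul, ← map_mul]
  rfl

/-- Sums of central parameters. -/
theorem uu_zero_mul (a b : F) : uu Q 0 a * uu Q 0 b = uu Q 0 (a + b) := by
  rw [uu_mul, mul_zero, add_zero, add_zero]

/-- The torus parameters of a subgroup. -/
def lam (M : Subgroup (Cfsg.Sz F m)) : Subgroup Fˣ where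
  carrier := {l | ∃ a b, uu Q a b * hI Q l ∈ M}
  one_mem' := ⟨0, 0, by rw [uu_zero, show hI Q 1 = 1 from map_one (hHom Q), one_mul]; exact one_mem M⟩
  mul_mem' := by
    rintro l l' ⟨a, b, h⟩ ⟨c, d, h'⟩
    obtain ⟨a', b', e⟩ := uh_mul Q a b c d l l'
    exact ⟨a', b', e ▸ mul_mem h h'⟩
  inv_mem' := by
    rintro l ⟨a, b, h⟩
    obtain ⟨a', b', l', e⟩ := exists_uh Q (g := (uu Q a b * hI Q l)⁻¹) (by
      rw [Subgroup.coe_inv, inv_smul_eq_iff]; exact (uh_fix Q a b l).symm)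
    obtain ⟨c, d, e'⟩ := uh_mul Q a b a' b' l l'
    have hl : l * l' = 1 := by
      rw [← e, mul_inv_cancel] at e'
      by_contra hne
      refine semi_hI Q hne 1 ?_
      rw [one_mul, inv_one, mul_one, eq_inv_of_mul_eq_one_right e'.symm]
      exact inv_mem (uu_mem Q c d)
    exact ⟨a', b', by rw [← eq_inv_of_mul_eq_one_right hl, ← e]; exact inv_mem h⟩

/-- The central parameters of a subgroup. -/
def cen (M : Subgroup (Cfsg.Sz F m)) : AddSubgroup F where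
  carrier := {b | uu Q 0 b ∈ M}
  zero_mem' := by show uu Q 0 0 ∈ M; rw [uu_zero]; exact one_mem M
  add_mem' := fun {a b} ha hb => by
    show uu Q 0 (a + b) ∈ M
    have h : uu Q 0 a * uu Q 0 b ∈ M := M.mul_mem ha hb
    rwa [uu_zero_mul] at h
  neg_mem' := fun {a} ha => by show uu Q 0 (-a) ∈ M; rwa [neg_eq Q]

variable {M : Subgroup ↥(Cfsg.Sz F m)} {b₁ : F}

theorem scale_mem {l : Fˣ} (hl : l ∈ lam Q M) {b : F} (hb : b ∈ cen Q M) :
    (l : F) ^ (2 ^ (m + 1) + 1) * b ∈ cen Q M := by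
  obtain ⟨a, c, h⟩ := hl
  show uu Q 0 _ ∈ M
  rw [← uh_conj Q a c l b]
  exact mul_mem (mul_mem h hb) (inv_mem h)

theorem all_conj (hb₁ : b₁ ≠ 0) (hM : uu Q 0 b₁ ∈ M) (hmove : ∃ g ∈ M, g.1 • inf∞ ≠ inf∞)
    {i : Cfsg.Sz F m} (hi : i ∈ M) (hi2 : orderOf i = 2) : ∃ y ∈ M, y * uu Q 0 b₁ * y⁻¹ = i := by
  obtain ⟨g, hg, hne⟩ := hmove
  obtain ⟨p, hp, hip, -⟩ := inv_point Q hi2
  have hu : (uu Q (0 : F) b₁).1 • inf∞ = inf∞ := T_inf m 0 b₁
  have h2 := orderOf_uu_zero Q hb₁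
  by_cases hpe : p = inf∞
  · subst hpe
    have hj2 : orderOf (g * uu Q 0 b₁ * g⁻¹) = 2 := by
      rw [show g * uu Q 0 b₁ * g⁻¹ = MulAut.conj g (uu Q 0 b₁) from rfl,
        orderOf_injective (MulAut.conj g).toMonoidHom (MulAut.conj g).injective (uu Q 0 b₁) |> fun e =>
          show orderOf (MulAut.conj g (uu Q 0 b₁)) = orderOf (uu Q 0 b₁) from e, h2]
    have hjf : (g * uu Q 0 b₁ * g⁻¹).1 • g.1 • inf∞ = g.1 • inf∞ := by
      show (g.1 * (uu Q 0 b₁).1 * g.1⁻¹) • g.1 • inf∞ = g.1 • inf∞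
      rw [mul_smul, mul_smul, inv_smul_smul, hu]
    obtain ⟨y, hy, e⟩ := conj_of_ne Q hM (mul_mem (mul_mem hg hM) (inv_mem hg)) h2 hj2 (inf_mem m)
      (smul_ovoid Q g.2 (inf_mem m)) hu hjf (Ne.symm hne)
    obtain ⟨y', hy', e'⟩ := conj_of_ne Q (mul_mem (mul_mem hg hM) (inv_mem hg)) hi hj2 hi2
      (smul_ovoid Q g.2 (inf_mem m)) hp hjf hip hne
    refine ⟨y' * y, mul_mem hy' hy, ?_⟩
    rw [← e', ← e]; group
  · exact conj_of_ne Q hM hi h2 hi2 (inf_mem m) hp hu hip (Ne.symm hpe)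

theorem lam_trans (hb₁ : b₁ ≠ 0) (hM : uu Q 0 b₁ ∈ M) (hmove : ∃ g ∈ M, g.1 • inf∞ ≠ inf∞)
    {b : F} (hb : b ∈ cen Q M) (hb0 : b ≠ 0) : ∃ l ∈ lam Q M, (l : F) ^ (2 ^ (m + 1) + 1) * b₁ = b := by
  obtain ⟨y, hy, e⟩ := all_conj Q hb₁ hM hmove hb (orderOf_uu_zero Q hb0)
  have hfix : y.1 • inf∞ = inf∞ :=
    ti Q (uu_mem Q 0 b₁) (fun h => hb₁ (uu_inj Q (h.trans (uu_zero Q).symm)).2) (e ▸ uu_mem Q 0 b)
  obtain ⟨a, c, l, rfl⟩ := exists_uh Q hfix
  rw [uh_conj] at e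
  exact ⟨l, ⟨a, c, hy⟩, (uu_inj Q e).2⟩

theorem card_lam (hb₁ : b₁ ≠ 0) (hM : uu Q 0 b₁ ∈ M) (hmove : ∃ g ∈ M, g.1 • inf∞ ≠ inf∞) :
    ∃ n, 1 ≤ n ∧ Nat.card (cen Q M) = 2 ^ n ∧ Nat.card (lam Q M) = 2 ^ n - 1 := by
  classical
  have hd : Nat.card (cen Q M) ∣ 2 ^ (2 * m + 1) := by
    have := AddSubgroup.card_addSubgroup_dvd_card (cen Q M)
    rwa [Nat.card_eq_fintype_card (α := F), Q.hF] at this
  obtain ⟨n, -, hn⟩ := (Nat.dvd_prime_pow Nat.prime_two).1 hd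
  have : Nontrivial (cen Q M) := ⟨⟨⟨b₁, hM⟩, 0, fun h => hb₁ (congrArg Subtype.val h)⟩⟩
  have h1 : 1 < Nat.card (cen Q M) := Finite.one_lt_card
  refine ⟨n, Nat.one_le_iff_ne_zero.2 fun h => ?_, hn, ?_⟩
  · rw [hn, h, pow_zero] at h1; exact lt_irrefl _ h1
  let f : lam Q M → {b : cen Q M // b ≠ 0} := fun l =>
    ⟨⟨(l.1 : F) ^ (2 ^ (m + 1) + 1) * b₁, scale_mem Q l.2 hM⟩, fun h => by
      have h' : (l.1 : F) ^ (2 ^ (m + 1) + 1) * b₁ = 0 := congrArg Subtype.val h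
      exact mul_ne_zero (pow_ne_zero _ l.1.ne_zero) hb₁ h'⟩
  have hf : Function.Bijective f := by
    refine ⟨fun l l' e => ?_, fun b => ?_⟩
    · have e' : (l.1 : F) ^ (2 ^ (m + 1) + 1) = (l'.1 : F) ^ (2 ^ (m + 1) + 1) :=
        mul_right_cancel₀ hb₁ (congrArg (fun z => (z.1.1 : F)) e)
      refine Subtype.ext (mul_inv_eq_one.1 (units_s1 Q ?_))
      rw [Units.val_mul, mul_pow, e', ← mul_pow, ← Units.val_mul, mul_inv_cancel, Units.val_one, one_pow]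
    · obtain ⟨l, hl, e⟩ := lam_trans Q hb₁ hM hmove b.1.2 (fun h => b.2 (Subtype.ext h))
      exact ⟨⟨l, hl⟩, Subtype.ext (Subtype.ext e)⟩
  rw [Nat.card_eq_of_bijective f hf, ← hn]
  let : Fintype (cen Q M) := Fintype.ofFinite _
  simp [Nat.card_eq_fintype_card]

theorem tiny_case (hb₁ : b₁ ≠ 0) (hM : uu Q 0 b₁ ∈ M) (hmove : ∃ g ∈ M, g.1 • inf∞ ≠ inf∞)
    (h2 : Nat.card (cen Q M) = 2) (hl : Nat.card (lam Q M) = 1) :
    ∃ U : Subgroup SS, IsCyclic U ∧ Nat.card U ∈ ({2 ^ (2 * m + 1) - 1, 2 ^ (2 * m + 1) + 2 ^ (m + 1) + 1,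
      2 ^ (2 * m + 1) - 2 ^ (m + 1) + 1} : Set ℕ) ∧ M ≤ Subgroup.normalizer (U : Set SS) := by
  classical
  have h2' : Fact (Nat.Prime 2) := ⟨Nat.prime_two⟩
  set S : Subgroup M := (uSub Q).subgroupOf M
  have hstab : ∀ g : M, g.1.1 • inf∞ = inf∞ → g ∈ S := fun g hg => by
    obtain ⟨a, b, l, e⟩ := exists_uh Q hg
    have hlm : l ∈ lam Q M := ⟨a, b, e ▸ g.2⟩
    rw [Subgroup.eq_bot_of_card_eq _ hl, Subgroup.mem_bot] at hlm
    rw [Subgroup.mem_subgroupOf, e, hlm, show hI Q 1 = 1 from map_one (hHom Q), mul_one]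
    exact uu_mem Q a b
  have hcen : ∀ b ∈ cen Q M, b ≠ 0 → b = b₁ := by
    intro b hb hb0
    obtain ⟨x, y, -, hxy⟩ := Nat.card_eq_two_iff.1 h2
    have h3 : ∀ z : cen Q M, z = x ∨ z = y := fun z => by
      have : z ∈ ({x, y} : Set (cen Q M)) := hxy ▸ Set.mem_univ z
      exact this
    rcases h3 ⟨b, hb⟩ with e1 | e1 <;> rcases h3 ⟨b₁, hM⟩ with e2 | e2 <;> rcases h3 0 with e3 | e3
    all_goals
      first
      | exact congrArg Subtype.val (e1.trans e2.symm)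
      | exact absurd (congrArg Subtype.val (e1.trans e3.symm)) hb0
      | exact absurd (congrArg Subtype.val (e2.trans e3.symm)) hb₁
  have hSp : IsPGroup 2 S := (isPGroup_uSub Q).comap_of_injective M.subtype M.subtype_injective
  have hnormS : Subgroup.normalizer (S : Set M) ≤ S := fun x hx => by
    refine hstab x (ti Q (uu_mem Q 0 b₁) (fun h => hb₁ (uu_inj Q (h.trans (uu_zero Q).symm)).2) ?_)
    exact (Subgroup.mem_normalizer_iff.1 hx ⟨_, hM⟩).1 (uu_mem Q 0 b₁)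
  obtain ⟨P, hP⟩ := hSp.exists_le_sylow
  have hPS : (P : Subgroup M) = S := by
    refine le_antisymm ?_ hP
    by_contra hne
    have hlt : S.subgroupOf (P : Subgroup M) < ⊤ := lt_top_iff_ne_top.2 fun h => hne (Subgroup.subgroupOf_eq_top.1 h)
    have : Group.IsNilpotent (P : Subgroup M) := P.isPGroup'.isNilpotent
    obtain ⟨x, hx, hxn⟩ := SetLike.exists_of_lt (normalizerCondition_of_isNilpotent _ hlt)
    refine hxn (Subgroup.mem_subgroupOf.2 (hnormS ?_))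
    rw [Subgroup.mem_normalizer_iff]
    intro y
    have key := Subgroup.mem_normalizer_iff.1 hx
    constructor
    · intro hy
      exact Subgroup.mem_subgroupOf.1 ((key ⟨y, hP hy⟩).1 (Subgroup.mem_subgroupOf.2 hy))
    · intro hy
      have hyP : y ∈ (P : Subgroup M) := by
        have := mul_mem (mul_mem (inv_mem x.2) (hP hy)) x.2
        simpa [mul_assoc] using this
      exact Subgroup.mem_subgroupOf.1 ((key ⟨y, hyP⟩).2 (Subgroup.mem_subgroupOf.2 hy))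
  have hab : ∀ x ∈ S, ∀ y ∈ S, Commute x y := by
    intro x hx y hy
    obtain ⟨a, b, e0⟩ := exists_uu Q hx
    obtain ⟨a', b', e0'⟩ := exists_uu Q hy
    have e : x.1 = uu Q a b := e0
    have e' : y.1 = uu Q a' b' := e0'
    have h1 : ∀ {a b : F}, uu Q a b ∈ M → a ≠ 0 → a ^ (2 ^ (m + 1) + 1) = b₁ := fun {a b} h ha => by
      refine hcen _ ?_ (pow_ne_zero _ ha)
      show uu Q 0 _ ∈ M
      rw [← uu_sq Q a b]; exact pow_mem h 2
    have hcom : uu Q a b * uu Q a' b' = uu Q a' b' * uu Q a b := by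
      rw [uu_mul, uu_mul]
      rcases eq_or_ne a 0 with rfl | ha
      · simp [zero_pow (pow_ne_zero (m + 1) two_ne_zero), add_comm]
      rcases eq_or_ne a' 0 with rfl | ha'
      · simp [zero_pow (pow_ne_zero (m + 1) two_ne_zero), add_comm]
      have h3 := (h1 (e ▸ x.2) ha).trans (h1 (e' ▸ y.2) ha').symm
      have h4 : Units.mk0 a ha = Units.mk0 a' ha' := mul_inv_eq_one.1 (units_s1 Q (by
        rw [Units.val_mul, Units.val_inv_eq_inv_val, mul_pow, Units.val_mk0, Units.val_mk0, h3, ← mul_pow,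
          mul_inv_cancel₀ ha', one_pow]))
      have h5 : a = a' := congrArg Units.val h4
      subst h5
      congr 1
      ring
    exact Subtype.ext (by show x.1 * y.1 = y.1 * x.1; rw [e, e', hcom])
  have hN : Subgroup.normalizer ((P : Subgroup M) : Set M) ≤ Subgroup.centralizer ((P : Subgroup M) : Set M) := by
    rw [hPS]
    exact fun x hx => Subgroup.mem_centralizer_iff.2 fun y hy => hab y hy x (hnormS hx)
  have hK := MonoidHom.ker_transferSylow_isComplement' P hN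
  set Nk := (MonoidHom.transferSylow P hN).ker
  have hcard := hK.card_mul
  refine torus_of_odd Q (N := Nk.map M.subtype) ?_ ?_ ?_
  · rw [ne_eq, Subgroup.map_eq_bot_iff_of_injective _ M.subtype_injective]
    intro hbot
    rw [hbot, Subgroup.card_bot, one_mul] at hcard
    obtain ⟨g, hg, hne⟩ := hmove
    have htop := Subgroup.eq_top_of_card_eq _ hcard
    have hgS : (⟨g, hg⟩ : M) ∈ S := hPS ▸ (htop ▸ Subgroup.mem_top _)
    obtain ⟨a, b, e⟩ := exists_uu Q hgS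
    exact hne (by rw [show g = uu Q a b from e]; exact T_inf m a b)
  · rw [Subgroup.card_map_of_injective M.subtype_injective, ← Nat.not_even_iff_odd, even_iff_two_dvd]
    intro h
    have hpos : 0 < Nat.card Nk := Nat.card_pos
    have h3 : Nk.index = Nat.card P := by
      have := Nk.card_mul_index
      rw [← hcard] at this
      exact Nat.eq_of_mul_eq_mul_left hpos this
    obtain ⟨j, hj⟩ := P.isPGroup'.exists_card_eq
    obtain ⟨x, hx⟩ := exists_prime_orderOf_dvd_card' (G := Nk) 2 h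
    obtain ⟨P', hP'⟩ := (IsPGroup.of_card (n := 1) (G := Subgroup.zpowers (x : M)) (by
      rw [Nat.card_zpowers, Subgroup.orderOf_coe, hx, pow_one])).exists_le_sylow
    obtain ⟨y, hy⟩ := MulAction.exists_smul_eq M P' P
    have hxP : y * (x : M) * y⁻¹ ∈ (P : Subgroup M) := by
      rw [← hy]; exact ⟨x, hP' (Subgroup.mem_zpowers _), rfl⟩
    have hxN : y * (x : M) * y⁻¹ ∈ Nk := (MonoidHom.normal_ker (MonoidHom.transferSylow P hN)).conj_mem _ x.2 y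
    have h4 := (hK.isCompl.disjoint.le_bot ⟨hxN, hxP⟩)
    rw [Subgroup.mem_bot, mul_inv_eq_one, mul_eq_left] at h4
    rw [← Subgroup.orderOf_coe, h4, orderOf_one] at hx
    exact absurd hx (by norm_num)
  · rintro g hg _ ⟨x, hx, rfl⟩
    obtain ⟨g', rfl⟩ : ∃ g' : M, g'.1 = g := ⟨⟨g, hg⟩, rfl⟩
    have hn : Nk.Normal := MonoidHom.normal_ker _
    refine ⟨g' * x * g'⁻¹, hn.conj_mem x hx g', ?_⟩
    simp

omit Q in
theorem mem_map_conj {c x : Cfsg.Sz F m} {M : Subgroup (Cfsg.Sz F m)} :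
    x ∈ M.map (MulAut.conj c).toMonoidHom ↔ c⁻¹ * x * c ∈ M := map_conj_mem M c x

/-- A normalised subgroup attached to a subfield. -/
structure Norm {K : Type*} [Field K] [Fintype K] (ι : K →+* F) (M : Subgroup ↥(Cfsg.Sz F m)) : Prop where
  move : ∃ g ∈ M, g.1 • inf∞ ≠ inf∞
  tor : ∀ t : Kˣ, hI Q (Units.map ι.toMonoidHom t) ∈ M
  lam_le : ∀ a b l, uu Q a b * hI Q l ∈ M → ∃ t : Kˣ, Units.map ι.toMonoidHom t = l
  cen_eq : ∀ b, uu Q 0 b ∈ M ↔ ∃ x : K, ι x = b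

/-- Every subgroup fixes a point, normalises a torus or is conjugate to a normalised one. -/
theorem reduce (M : Subgroup ↥(Cfsg.Sz F m)) :
    (∃ P : Sylow 2 SS, M ≤ Subgroup.normalizer ((P : Subgroup SS) : Set SS)) ∨
    (∃ U : Subgroup SS, IsCyclic U ∧ Nat.card U ∈ ({2 ^ (2 * m + 1) - 1, 2 ^ (2 * m + 1) + 2 ^ (m + 1) + 1,
      2 ^ (2 * m + 1) - 2 ^ (m + 1) + 1} : Set ℕ) ∧ M ≤ Subgroup.normalizer (U : Set SS)) ∨
    ∃ (k : ℕ) (K : Type) (_ : Field K) (_ : Fintype K) (_ : Par K k) (ι : K →+* F) (c : SS),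
      2 * k + 1 ∣ 2 * m + 1 ∧ Norm Q ι (M.map (MulAut.conj c).toMonoidHom) := by
  classical
  have : Fact (Nat.Prime 2) := ⟨Nat.prime_two⟩
  rcases eq_or_ne M ⊥ with rfl | hne
  · exact Or.inl (le_normalizer_of_fix Q (inf_mem m) fun g hg => by
      rw [Subgroup.mem_bot.1 hg, Subgroup.coe_one, one_smul])
  by_cases hodd : Odd (Nat.card M)
  · exact Or.inr (Or.inl (torus_of_odd Q hne hodd fun g hg a ha => mul_mem (mul_mem hg ha) (inv_mem hg)))
  rw [Nat.not_odd_iff_even, even_iff_two_dvd] at hodd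
  obtain ⟨i, hi⟩ := exists_prime_orderOf_dvd_card' (G := M) 2 hodd
  have hi2 : orderOf (i : SS) = 2 := by rw [Subgroup.orderOf_coe]; exact hi
  obtain ⟨p, hp, hip, -⟩ := inv_point Q hi2
  by_cases hfix : ∀ g ∈ M, g.1 • p = p
  · exact Or.inl (le_normalizer_of_fix Q hp hfix)
  push Not at hfix
  obtain ⟨g₀, hg₀, hg₀p⟩ := hfix
  obtain ⟨c0, hc0, hcp⟩ := transitive Q hp (inf_mem m)
  obtain ⟨c, rfl⟩ : ∃ c : SS, c.1 = c0 := ⟨⟨c0, hc0⟩, rfl⟩
  set M₁ := M.map (MulAut.conj c).toMonoidHom with hM₁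
  have hi₁ : c * i * c⁻¹ ∈ M₁ := ⟨i, i.2, rfl⟩
  obtain ⟨b₁, hb₁, ei⟩ := inv_at_inf Q (i := c * i * c⁻¹) (by
    rw [show c * (i : SS) * c⁻¹ = MulAut.conj c (i : SS) from rfl,
      orderOf_injective (MulAut.conj c).toMonoidHom (MulAut.conj c).injective (i : SS) |> fun e =>
        show orderOf (MulAut.conj c (i : SS)) = orderOf (i : SS) from e, hi2]) (by
    show (c.1 * i.1.1 * c.1⁻¹) • inf∞ = inf∞
    rw [← hcp, mul_smul, mul_smul, inv_smul_smul, hip])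
  have hM : uu Q 0 b₁ ∈ M₁ := ei ▸ hi₁
  have hmove : ∃ g ∈ M₁, g.1 • inf∞ ≠ inf∞ := ⟨c * g₀ * c⁻¹, ⟨g₀, hg₀, rfl⟩, fun e => hg₀p (by
    have e' : (c.1 * g₀.1 * c.1⁻¹) • inf∞ = inf∞ := e
    rw [← hcp, mul_smul, mul_smul, inv_smul_smul] at e'
    exact MulAction.injective c.1 e')⟩
  obtain ⟨n, hn, hcen, hlam⟩ := card_lam Q hb₁ hM hmove
  rcases Nat.lt_or_ge n 2 with hn2 | hn2
  · obtain rfl : n = 1 := by omega
    obtain ⟨U, hU, hUc, hle⟩ := tiny_case Q hb₁ hM hmove hcen (by simpa using hlam)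
    refine Or.inr (Or.inl ⟨U.map (MulAut.conj c⁻¹).toMonoidHom, ?_, ?_, fun g hg => ?_⟩)
    · exact isCyclic_of_surjective (U.equivMapOfInjective _ (MulAut.conj c⁻¹).injective).toMonoidHom
        (U.equivMapOfInjective _ (MulAut.conj c⁻¹).injective).surjective
    · rwa [Subgroup.card_map_of_injective (MulAut.conj c⁻¹).injective]
    · have h := hle ⟨g, hg, rfl⟩
      rw [Subgroup.mem_normalizer_iff] at h ⊢
      intro x
      rw [map_conj_mem, map_conj_mem, inv_inv, h (c * x * c⁻¹)]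
      simp [mul_assoc]
  -- the subfield
  have hdvd : n ∣ 2 * m + 1 := by
    have h1 : 2 ^ n - 1 ∣ 2 ^ (2 * m + 1) - 1 := by
      rw [← hlam, ← Q.hF, ← Nat.card_eq_fintype_card, ← Nat.card_units]
      exact Subgroup.card_subgroup_dvd_card _
    have h2 := Nat.pow_sub_one_gcd_pow_sub_one 2 n (2 * m + 1)
    rw [Nat.gcd_eq_left h1] at h2
    have hp1 : 1 ≤ 2 ^ n := Nat.one_le_two_pow
    have hp2 : 1 ≤ 2 ^ Nat.gcd n (2 * m + 1) := Nat.one_le_two_pow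
    have h3 : n = Nat.gcd n (2 * m + 1) := Nat.pow_right_injective le_rfl (show 2 ^ n = 2 ^ Nat.gcd n (2 * m + 1) by omega)
    exact h3 ▸ Nat.gcd_dvd_right _ _
  obtain ⟨k, rfl⟩ : ∃ k, n = 2 * k + 1 := by
    obtain ⟨d, hd⟩ := hdvd
    rcases Nat.even_or_odd' n with ⟨k, e | e⟩
    · exfalso
      rw [e, mul_assoc] at hd
      omega
    · exact ⟨k, e⟩
  have : Fintype (GaloisField 2 (2 * k + 1)) := Fintype.ofFinite _
  let K := GaloisField 2 (2 * k + 1)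
  have hKc : Fintype.card K = 2 ^ (2 * k + 1) := by
    rw [← Nat.card_eq_fintype_card]; exact GaloisField.card 2 _ (Nat.succ_ne_zero _)
  have R : Par K k := ⟨by omega, hKc⟩
  obtain ⟨ι⟩ := exists_embedding Q R hdvd
  -- a torus element in standard position
  obtain ⟨lg, hlg⟩ := IsCyclic.exists_generator (α := lam Q M₁)
  have hlg1 : lg.1 ≠ 1 := by
    intro e
    have hb : lam Q M₁ = ⊥ := by
      rw [eq_bot_iff]
      intro l hl
      obtain ⟨j, hj⟩ := Subgroup.mem_zpowers_iff.1 (hlg ⟨l, hl⟩)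
      rw [Subgroup.mem_bot, show l = ((lg ^ j : lam Q M₁) : Fˣ) by rw [hj], SubgroupClass.coe_zpow, e, one_zpow]
    rw [hb, Subgroup.card_bot] at hlam
    have : 2 ^ 2 ≤ 2 ^ (2 * k + 1) := Nat.pow_le_pow_right two_pos hn2
    omega
  obtain ⟨a, b, hab⟩ := lg.2
  obtain ⟨x, y, hxy⟩ : ∃ x y, T m a b • H m lg.1 • pt m x y = pt m x y := by
    have h1 : (1 : F) - (lg.1 : F) ≠ 0 := sub_ne_zero.2 fun e => hlg1 (Units.ext e.symm)
    have h2 : (1 : F) - (lg.1 : F) ^ (2 ^ (m + 1) + 1) ≠ 0 := sub_ne_zero.2 fun e => hlg1 (units_s1 Q e.symm)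
    refine ⟨a / (1 - lg.1), (a ^ (2 ^ (m + 1)) * ((lg.1 : F) * (a / (1 - lg.1))) + b) /
      (1 - (lg.1 : F) ^ (2 ^ (m + 1) + 1)), ?_⟩
    rw [H_pt Q, T_pt Q]
    congr 1 <;> field_simp <;> ring
  obtain ⟨ν, hν⟩ := exists_s1_root Q (Units.mk0 b₁ hb₁)⁻¹
  set d : SS := hI Q ν * (uu Q x y)⁻¹ with hd
  have hzero : T m x y • pt m (0 : F) 0 = pt m x y := by
    rw [T_pt Q]; simp
  have hdiag : (uu Q x y)⁻¹ * (uu Q a b * hI Q lg.1) * uu Q x y = hI Q lg.1 := by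
    have hval : ((uu Q x y)⁻¹ * (uu Q a b * hI Q lg.1) * uu Q x y).1 = (T m x y)⁻¹ * (T m a b * H m lg.1) * T m x y :=
      rfl
    obtain ⟨l', hl'⟩ := stab_pair Q ((uu Q x y)⁻¹ * (uu Q a b * hI Q lg.1) * uu Q x y).2
      (by rw [hval, mul_smul, mul_smul, mul_smul, T_inf, H_inf, T_inf, inv_smul_eq_iff, T_inf])
      (by rw [hval, mul_smul, mul_smul, mul_smul, hzero, hxy, inv_smul_eq_iff, hzero])
    have e1 : (uu Q x y)⁻¹ * (uu Q a b * hI Q lg.1) * uu Q x y = hI Q l' := Subtype.ext hl'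
    have e2 : (hI Q lg.1 * uu Q x y * (hI Q lg.1)⁻¹) ∈ uSub Q := by rw [hI_conj]; exact uu_mem Q _ _
    have e3 : hI Q (l' * lg.1⁻¹) ∈ uSub Q := by
      show hHom Q (l' * lg.1⁻¹) ∈ uSub Q
      rw [map_mul, map_inv, show hHom Q l' = hI Q l' from rfl, ← e1,
        show (uu Q x y)⁻¹ * (uu Q a b * hI Q lg.1) * uu Q x y * (hHom Q lg.1)⁻¹ =
          (uu Q x y)⁻¹ * uu Q a b * (hI Q lg.1 * uu Q x y * (hI Q lg.1)⁻¹) by
            show _ * (hI Q lg.1)⁻¹ = _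
            group]
      exact mul_mem (mul_mem (inv_mem (uu_mem Q x y)) (uu_mem Q a b)) e2
    have e4 : l' * lg.1⁻¹ = 1 := by
      by_contra hne'
      exact semi_hI Q hne' 1 (by rw [one_mul, inv_one, mul_one]; exact e3)
    rw [e1, mul_inv_eq_one.1 e4]
  set M₂ := M.map (MulAut.conj (d * c)).toMonoidHom with hM₂
  have hmem₂ : ∀ g, g ∈ M₁ → d * g * d⁻¹ ∈ M₂ := fun g hg => by
    obtain ⟨g', hg', rfl⟩ := hg
    exact ⟨g', hg', by show d * c * g' * (d * c)⁻¹ = d * (c * g' * c⁻¹) * d⁻¹; group⟩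
  have hν1 : (ν : F) ^ (2 ^ (m + 1) + 1) * b₁ = 1 := by
    rw [← Units.val_pow_eq_pow_val, hν, Units.val_inv_eq_inv_val, Units.val_mk0, inv_mul_cancel₀ hb₁]
  have hone : uu Q 0 1 ∈ M₂ := by
    have h := hmem₂ _ hM
    rw [hd, show hI Q ν * (uu Q x y)⁻¹ * uu Q 0 b₁ * (hI Q ν * (uu Q x y)⁻¹)⁻¹ =
      hI Q ν * ((uu Q x y)⁻¹ * uu Q 0 b₁ * uu Q x y) * (hI Q ν)⁻¹ by group,
      show (uu Q x y)⁻¹ * uu Q 0 b₁ * uu Q x y = uu Q 0 b₁ by
        rw [mul_assoc, inv_mul_eq_iff_eq_mul, uu_mul, uu_mul]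
        simp [zero_pow (pow_ne_zero (m + 1) two_ne_zero), add_comm],
      hI_conj, mul_zero, hν1] at h
    exact h
  have hfixd : d.1 • inf∞ = inf∞ := by
    rw [hd, Subgroup.coe_mul, Subgroup.coe_inv, mul_smul,
      show (uu Q x y).1⁻¹ • inf∞ = inf∞ by rw [inv_smul_eq_iff]; exact (T_inf m x y).symm]
    exact H_inf m ν
  have hmove₂ : ∃ g ∈ M₂, g.1 • inf∞ ≠ inf∞ := by
    obtain ⟨g, hg, hne'⟩ := hmove
    refine ⟨d * g * d⁻¹, hmem₂ g hg, fun e => hne' ?_⟩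
    have e' : (d.1 * g.1 * d.1⁻¹) • inf∞ = inf∞ := e
    conv_lhs at e' => rw [← hfixd]
    rw [mul_smul, mul_smul, inv_smul_smul] at e'
    exact MulAction.injective d.1 (e'.trans hfixd.symm)
  have htor0 : hI Q lg.1 ∈ M₂ := by
    have h := hmem₂ _ hab
    rw [hd, show hI Q ν * (uu Q x y)⁻¹ * (uu Q a b * hI Q lg.1) * (hI Q ν * (uu Q x y)⁻¹)⁻¹ =
      hI Q ν * ((uu Q x y)⁻¹ * (uu Q a b * hI Q lg.1) * uu Q x y) * (hI Q ν)⁻¹ by group, hdiag,
      show hI Q ν * hI Q lg.1 * (hI Q ν)⁻¹ = hI Q lg.1 by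
        show hHom Q ν * hHom Q lg.1 * (hHom Q ν)⁻¹ = hHom Q lg.1
        rw [← map_mul, mul_comm, map_mul, mul_inv_cancel_right]] at h
    exact h
  obtain ⟨n', -, hcen₂, hlam₂⟩ := card_lam Q one_ne_zero hone hmove₂
  have hlam_le : lam Q M₁ ≤ lam Q M₂ := fun l hl => by
    obtain ⟨j, hj⟩ := Subgroup.mem_zpowers_iff.1 (hlg ⟨l, hl⟩)
    have e : l = lg.1 ^ j := by rw [← SubgroupClass.coe_zpow, hj]
    refine ⟨0, 0, ?_⟩
    rw [uu_zero, one_mul, e, show hI Q (lg.1 ^ j) = hI Q lg.1 ^ j from map_zpow (hHom Q) _ _]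
    exact zpow_mem htor0 j
  have hlam_ge : ∀ l ∈ lam Q M₂, l ∈ lam Q M₁ := by
    rintro l ⟨a', b', h⟩
    obtain ⟨g', hg', e⟩ := h
    have e' : c * g' * c⁻¹ = d⁻¹ * (uu Q a' b' * hI Q l) * d := by
      rw [← e]; show _ = d⁻¹ * (d * c * g' * (d * c)⁻¹) * d; group
    obtain ⟨a1, b1, l1, e1⟩ := exists_uh Q (g := d⁻¹ * (uu Q a' b' * hI Q l) * d) (by
      show (d.1⁻¹ * _ * d.1) • inf∞ = inf∞
      rw [mul_smul, mul_smul, hfixd, uh_fix, inv_smul_eq_iff, hfixd])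
    obtain ⟨a2, b2, l2, e2⟩ := exists_uh Q hfixd
    have hl1 : l1 = l := by
      have h0 : d * (uu Q a1 b1 * hI Q l1) = (uu Q a' b' * hI Q l) * d := by rw [← e1]; group
      rw [e2] at h0
      obtain ⟨u1, v1, f1⟩ := uh_mul Q a2 b2 a1 b1 l2 l1
      obtain ⟨u2, v2, f2⟩ := uh_mul Q a' b' a2 b2 l l2
      rw [f1, f2, mul_comm l l2] at h0
      have h3 : hI Q (l2 * l1 * (l2 * l)⁻¹) = (uu Q u1 v1)⁻¹ * uu Q u2 v2 := by
        show hHom Q _ = _
        rw [map_mul (hHom Q) (l2 * l1), map_inv, eq_inv_mul_iff_mul_eq, ← mul_assoc, mul_inv_eq_iff_eq_mul]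
        exact h0
      by_contra hne'
      refine semi_hI Q (k := l2 * l1 * (l2 * l)⁻¹) (fun e => hne' (mul_left_cancel (mul_inv_eq_one.1 e))) 1 ?_
      rw [one_mul, inv_one, mul_one, h3]
      exact mul_mem (inv_mem (uu_mem Q _ _)) (uu_mem Q _ _)
    exact ⟨a1, b1, hl1 ▸ e1 ▸ e' ▸ ⟨g', hg', rfl⟩⟩
  have heq : lam Q M₂ = lam Q M₁ := le_antisymm hlam_ge hlam_le
  have hn' : 2 ^ n' = 2 ^ (2 * k + 1) := by
    rw [heq, hlam] at hlam₂
    have h1 : 1 ≤ 2 ^ n' := Nat.one_le_two_pow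
    have h2 : 1 ≤ 2 ^ (2 * k + 1) := Nat.one_le_two_pow
    omega
  have hle : ∀ l ∈ lam Q M₂, ∃ t : Kˣ, Units.map ι.toMonoidHom t = l := by
    intro l hl
    refine exists_of_pow_eq_one Q R hdvd ι ?_
    have h := pow_card_eq_one' (x := (⟨l, hl⟩ : lam Q M₂))
    rw [hlam₂, hn'] at h
    simpa using congrArg Subtype.val h
  have htor : ∀ t : Kˣ, Units.map ι.toMonoidHom t ∈ lam Q M₂ := by
    have hsub : lam Q M₂ ≤ (Units.map ι.toMonoidHom).range := fun l hl => hle l hl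
    have hcard : Nat.card (Units.map ι.toMonoidHom).range ≤ Nat.card (lam Q M₂) := by
      rw [hlam₂, hn', ← Nat.card_congr (MonoidHom.ofInjective (Units.map_injective (f := ι.toMonoidHom) ι.injective)).toEquiv,
        Nat.card_units, Nat.card_eq_fintype_card, hKc]
    intro t
    rw [Subgroup.eq_of_le_of_card_ge hsub hcard]
    exact ⟨t, rfl⟩
  refine Or.inr (Or.inr ⟨k, K, inferInstance, inferInstance, R, ι, d * c, hdvd, hmove₂, fun t => ?_,
    fun a' b' l h => hle l ⟨a', b', h⟩, fun b' => ⟨fun h => ?_, ?_⟩⟩)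
  · have h1 : Units.map ι.toMonoidHom t ∈ lam Q M₁ := heq ▸ htor t
    obtain ⟨j, hj⟩ := Subgroup.mem_zpowers_iff.1 (hlg ⟨_, h1⟩)
    rw [show Units.map ι.toMonoidHom t = lg.1 ^ j by rw [← SubgroupClass.coe_zpow, hj],
      show hI Q (lg.1 ^ j) = hI Q lg.1 ^ j from map_zpow (hHom Q) _ _]
    exact zpow_mem htor0 j
  · rcases eq_or_ne b' 0 with rfl | hb'
    · exact ⟨0, map_zero ι⟩
    obtain ⟨l, hl, e⟩ := lam_trans Q one_ne_zero hone hmove₂ h hb'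
    obtain ⟨t, rfl⟩ := hle l hl
    exact ⟨(t : K) ^ (2 ^ (k + 1) + 1), by rw [← map_e1 Q R hdvd ι, ← e, mul_one]; rfl⟩
  · rintro ⟨x', rfl⟩
    rcases eq_or_ne x' 0 with rfl | hx'
    · rw [map_zero, uu_zero]; exact one_mem _
    obtain ⟨t, ht⟩ := exists_s1_root R (Units.mk0 x' hx')
    have h := scale_mem Q (htor t) (show (1 : F) ∈ cen Q M₂ from hone)
    rw [mul_one] at h
    show ι x' ∈ cen Q M₂
    convert h using 1
    show ι x' = ι (t : K) ^ _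
    rw [map_e1 Q R hdvd ι, ← Units.val_pow_eq_pow_val, ht]; rfl

end Cfsg.Lib.Suz.Sub
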