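import Cfsg.Agent.Suz.Sub.Semi
import Mathlib

/-!
The involutions of a subgroup of a Suzuki group and the odd normal subgroups.
-/

set_option autoImplicit false
set_option linter.unusedSectionVars false
set_option linter.style.haveILetI false

open scoped commutatorElement Pointwise

namespace Cfsg.Lib.Suz.Sub

open Cfsg.Lib.Suz

variable {F : Type*} [Field F] [Fintype F] {m : ℕ} (Q : Par F m)

local notation "SS" => Cfsg.Sz F m
local notation "inf∞" => Cfsg.suzukiPointInfinity F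

include Q

/-- A subgroup fixing a point lies in a Sylow normaliser. -/
theorem le_normalizer_of_fix {M : Subgroup (Cfsg.Sz F m)} {p : Projectivization F (Fin 4 → F)}
    (hp : p ∈ Cfsg.suzukiOvoid F m) (hfix : ∀ g ∈ M, g.1 • p = p) :
    ∃ P : Sylow 2 SS, M ≤ Subgroup.normalizer ((P : Subgroup SS) : Set SS) := by
  obtain ⟨c0, hc0, hcp⟩ := transitive Q hp (inf_mem m)
  obtain ⟨c, rfl⟩ : ∃ c : SS, c.1 = c0 := ⟨⟨c0, hc0⟩, rfl⟩
  refine ⟨c⁻¹ • syl Q, fun g hg => ?_⟩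
  have hn : c * g * c⁻¹ ∈ Subgroup.normalizer (uSub Q : Set SS) := by
    rw [normalizer_uSub Q]
    show (c.1 * g.1 * c.1⁻¹) • inf∞ = inf∞
    rw [← hcp, mul_smul, mul_smul, inv_smul_smul, hfix g hg]
  have hmem : ∀ x : SS, x ∈ ((c⁻¹ • syl Q : Sylow 2 SS) : Subgroup SS) ↔ c * x * c⁻¹ ∈ uSub Q := fun x => by
    rw [Sylow.coe_subgroup_smul, Subgroup.mem_pointwise_smul_iff_inv_smul_mem, syl_coe]
    show (MulAut.conj c⁻¹)⁻¹ x ∈ uSub Q ↔ _
    rw [← map_inv, MulAut.conj_apply]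
    simp
  rw [Subgroup.mem_normalizer_iff]
  intro x
  rw [hmem, hmem, Subgroup.mem_normalizer_iff.1 hn (c * x * c⁻¹)]
  simp [mul_assoc]

/-- A subgroup with an odd abelian normal subgroup normalises a torus. -/
theorem torus_of_abelian {M A : Subgroup (Cfsg.Sz F m)} (hne : A ≠ ⊥) (hab : ∀ x ∈ A, ∀ y ∈ A, Commute x y)
    (hodd : Odd (Nat.card A)) (hnorm : ∀ g ∈ M, ∀ a ∈ A, g * a * g⁻¹ ∈ A) :
    ∃ U : Subgroup SS, IsCyclic U ∧ Nat.card U ∈ ({2 ^ (2 * m + 1) - 1, 2 ^ (2 * m + 1) + 2 ^ (m + 1) + 1,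
      2 ^ (2 * m + 1) - 2 ^ (m + 1) + 1} : Set ℕ) ∧ M ≤ Subgroup.normalizer (U : Set SS) := by
  obtain ⟨a, ha, ha1⟩ := (Subgroup.ne_bot_iff_exists_ne_one.1 hne |> fun ⟨x, hx⟩ =>
    (⟨x.1, x.2, fun e => hx (Subtype.ext e)⟩ : ∃ a ∈ A, a ≠ 1))
  rcases cent_cases Q ha1 with ⟨-, c, hc⟩ | ⟨hcy, hcard⟩
  · exfalso
    obtain ⟨x, y, e⟩ := exists_uu Q hc
    have h4 : (c * a * c⁻¹) ^ 4 = 1 := by rw [e, uu_four]
    rw [conj_pow, mul_inv_eq_one, mul_eq_left] at h4
    have h1 : orderOf a ∣ 2 ^ 2 := orderOf_dvd_of_pow_eq_one h4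
    obtain ⟨j, -, hj⟩ := (Nat.dvd_prime_pow Nat.prime_two).1 h1
    have hj0 : j ≠ 0 := fun h => ha1 (orderOf_eq_one_iff.1 (by rw [hj, h, pow_zero]))
    have h2 : 2 ∣ Nat.card A := (hj ▸ dvd_pow_self 2 hj0).trans (Subgroup.orderOf_dvd_natCard _ ha)
    exact Nat.not_even_iff_odd.2 hodd (even_iff_two_dvd.2 h2)
  refine ⟨tor a, hcy, hcard, fun g hg => ?_⟩
  have hsemi : Semi Q a := fun c hc => by
    obtain ⟨x, y, e⟩ := exists_uu Q hc
    have h4 : (c * a * c⁻¹) ^ 4 = 1 := by rw [e, uu_four]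
    rw [conj_pow, mul_inv_eq_one, mul_eq_left] at h4
    obtain ⟨j, -, hj⟩ := (Nat.dvd_prime_pow Nat.prime_two).1 (orderOf_dvd_of_pow_eq_one (n := 2 ^ 2) h4)
    have hj0 : j ≠ 0 := fun h => ha1 (orderOf_eq_one_iff.1 (by rw [hj, h, pow_zero]))
    have h2 : 2 ∣ Nat.card A := (hj ▸ dvd_pow_self 2 hj0).trans (Subgroup.orderOf_dvd_natCard _ ha)
    exact Nat.not_even_iff_odd.2 hodd (even_iff_two_dvd.2 h2)
  have hga := hnorm g hg a ha
  have e := ((semi_spec Q hsemi).2.2 _ (mem_tor.2 (hab _ hga _ ha))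
    (fun e => ha1 (by rwa [mul_inv_eq_one, mul_eq_left] at e))).2
  rw [Subgroup.mem_normalizer_iff]
  intro x
  conv_rhs => rw [← e]
  show x ∈ tor a ↔ g * x * g⁻¹ ∈ Subgroup.centralizer ({g * a * g⁻¹} : Set SS)
  rw [cent_conj]
  simp [mul_assoc]

/-- A subgroup with a nontrivial normal subgroup of odd order normalises a torus. -/
theorem torus_of_odd {M N : Subgroup (Cfsg.Sz F m)} (hne : N ≠ ⊥) (hodd : Odd (Nat.card N))
    (hnorm : ∀ g ∈ M, ∀ a ∈ N, g * a * g⁻¹ ∈ N) :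
    ∃ U : Subgroup SS, IsCyclic U ∧ Nat.card U ∈ ({2 ^ (2 * m + 1) - 1, 2 ^ (2 * m + 1) + 2 ^ (m + 1) + 1,
      2 ^ (2 * m + 1) - 2 ^ (m + 1) + 1} : Set ℕ) ∧ M ≤ Subgroup.normalizer (U : Set SS) := by
  have : IsZGroup N := ⟨fun p hp P => by
    have : Fact p.Prime := ⟨hp⟩
    rcases subsingleton_or_nontrivial (P : Subgroup N) with h | h
    · exact isCyclic_of_subsingleton
    have hp2 : p ≠ 2 := by
      rintro rfl
      have h1 := Finite.one_lt_card_iff_nontrivial.2 h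
      obtain ⟨i, hi⟩ := P.isPGroup'.exists_card_eq
      have h2 : 2 ∣ Nat.card N := by
        refine dvd_trans ?_ (Subgroup.card_subgroup_dvd_card (P : Subgroup N))
        rw [hi] at h1 ⊢
        exact dvd_pow_self 2 (fun e => by rw [e, pow_zero] at h1; exact lt_irrefl _ h1)
      exact Nat.not_even_iff_odd.2 hodd (even_iff_two_dvd.2 h2)
    obtain ⟨P', hP'⟩ := (P.isPGroup'.map N.subtype).exists_le_sylow
    have := sylow_odd Q hp2 P'
    let f : (P : Subgroup N) →* (P' : Subgroup SS) :=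
      (N.subtype.comp (P : Subgroup N).subtype).codRestrict _ fun x => hP' ⟨x.1, x.2, rfl⟩
    exact isCyclic_of_injective f fun x y e => Subtype.ext (Subtype.ext (congrArg (fun z : (P' : Subgroup SS) => z.1) e))⟩
  by_cases hc : commutator N = ⊥
  · refine torus_of_abelian Q hne (fun x hx y hy => ?_) hodd hnorm
    have h1 : ⁅(⟨x, hx⟩ : N), ⟨y, hy⟩⁆ ∈ commutator N :=
      Subgroup.commutator_mem_commutator (Subgroup.mem_top _) (Subgroup.mem_top _)
    rw [hc, Subgroup.mem_bot, commutatorElement_eq_one_iff_commute] at h1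
    exact congrArg Subtype.val h1.eq
  · refine torus_of_abelian Q (A := (commutator N).map N.subtype) ?_ ?_ ?_ ?_
    · rwa [ne_eq, Subgroup.map_eq_bot_iff_of_injective _ N.subtype_injective]
    · rintro _ ⟨x, hx, rfl⟩ _ ⟨y, hy, rfl⟩
      have : IsCyclic (commutator N) := IsZGroup.isCyclic_commutator N
      let := this.commGroup
      exact (congrArg (fun z : commutator N => N.subtype z.1) (mul_comm (⟨x, hx⟩ : commutator N) ⟨y, hy⟩))
    · rw [Subgroup.card_map_of_injective N.subtype_injective]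
      exact hodd.of_dvd_nat (Subgroup.card_subgroup_dvd_card _)
    · rintro g hg _ ⟨x, hx, rfl⟩
      let σ : N ≃* N :=
        { toFun := fun a => ⟨g * a.1 * g⁻¹, hnorm g hg _ a.2⟩
          invFun := fun a => ⟨g⁻¹ * a.1 * g, by
            have := hnorm g⁻¹ (inv_mem hg) _ a.2; rwa [inv_inv] at this⟩
          left_inv := fun a => Subtype.ext (by simp [mul_assoc])
          right_inv := fun a => Subtype.ext (by simp [mul_assoc])
          map_mul' := fun a b => Subtype.ext (by simp [mul_assoc]) }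
      refine ⟨σ x, ?_, rfl⟩
      have hchar : (commutator N).Characteristic := inferInstance
      exact Subgroup.characteristic_iff_map_le.1 hchar σ ⟨x, hx, rfl⟩

/-- The fixed point of an involution. -/
theorem inv_point {i : Cfsg.Sz F m} (hi : orderOf i = 2) : ∃ p ∈ Cfsg.suzukiOvoid F m, i.1 • p = p ∧
    ∀ p' ∈ Cfsg.suzukiOvoid F m, i.1 • p' = p' → p' = p := by
  have hi1 : i ≠ 1 := fun e => by rw [e, orderOf_one] at hi; exact absurd hi (by norm_num)
  obtain ⟨c, hc⟩ : ∃ c, c * i * c⁻¹ ∈ uSub Q := by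
    by_contra hn
    push Not at hn
    have h2 : 2 ∣ Nat.card (tor i) := hi ▸ Subgroup.orderOf_dvd_natCard _ (mem_tor.2 (Commute.refl i))
    exact Nat.not_even_iff_odd.2 (semi_spec Q (g := i) hn).2.1 (even_iff_two_dvd.2 h2)
  obtain ⟨a, b, e⟩ := hc
  have hne : ¬(a = 0 ∧ b = 0) := fun ⟨ha, hb⟩ => hi1 (by
    rw [ha, hb, T_zero Q] at e
    have e' : c * i * c⁻¹ = 1 := Subtype.ext e
    rwa [mul_inv_eq_one, mul_eq_left] at e')
  refine ⟨c.1⁻¹ • inf∞, smul_ovoid Q (inv_mem c.2) (inf_mem m), ?_, fun p' hp' hfix => ?_⟩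
  · have h : (c.1 * i.1 * c.1⁻¹) • inf∞ = inf∞ := by
      rw [show c.1 * i.1 * c.1⁻¹ = T m a b from e, T_inf]
    rw [mul_smul, mul_smul, ← eq_inv_smul_iff] at h
    exact h
  · have h : T m a b • c.1 • p' = c.1 • p' := by
      rw [← e]
      show (c.1 * i.1 * c.1⁻¹) • c.1 • p' = c.1 • p'
      rw [mul_smul, mul_smul, inv_smul_smul, hfix]
    rw [← fixes_only Q hne (smul_ovoid Q c.2 hp') h, inv_smul_smul]

/-- An involution fixing the base point is central in the unipotent group. -/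
theorem inv_at_inf {i : Cfsg.Sz F m} (hi : orderOf i = 2) (hfix : i.1 • inf∞ = inf∞) :
    ∃ b : F, b ≠ 0 ∧ i = uu Q 0 b := by
  obtain ⟨a, b, l, e⟩ := stab_inf Q i.2 hfix
  have ei : i = uu Q a b * hI Q l := Subtype.ext e
  have hii : i * i = 1 := by rw [← pow_two, ← hi]; exact pow_orderOf_eq_one i
  have hl : l = 1 := by
    by_contra hl
    obtain ⟨p, hp, -, huniq⟩ := inv_point Q hi
    have h0 : uu Q a b * hI Q l * (uu Q a b * hI Q l) = 1 := ei ▸ hii
    rw [show uu Q a b * hI Q l * (uu Q a b * hI Q l) =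
      uu Q a b * (hI Q l * uu Q a b * (hI Q l)⁻¹) * (hHom Q l * hHom Q l) by
        show _ = _ * _ * (hI Q l * hI Q l)
        group, hI_conj, uu_mul, ← map_mul] at h0
    have h1 := (eq_inv_of_mul_eq_one_right h0)
    have hmem : hI Q (l * l) ∈ uSub Q := by
      show hHom Q (l * l) ∈ uSub Q
      rw [h1]; exact inv_mem (uu_mem Q _ _)
    by_cases hll : l * l = 1
    · refine hl (Units.ext ?_)
      have h4 : ((l : F) + 1) ^ 2 = 0 := by
        rw [add_sq' Q, pow_two, ← Units.val_mul, hll, Units.val_one, one_pow, add_self Q]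
      exact (eq_neg_of_add_eq_zero_left (pow_eq_zero_iff two_ne_zero |>.1 h4)).trans (neg_eq Q 1)
    · exact semi_hI Q hll 1 (by simpa using hmem)
  subst hl
  have ei' : i = uu Q a b := by
    rw [ei, show hI Q 1 = 1 from map_one (hHom Q), mul_one]
  have ha : a = 0 := by
    have h : uu Q a b ^ 2 = 1 := by rw [← ei', pow_two, hii]
    rw [uu_sq, ← uu_zero Q] at h
    have h2 := (uu_inj Q h).2
    exact (pow_eq_zero_iff (Nat.succ_ne_zero _)).1 h2
  subst ha
  refine ⟨b, ?_, ei'⟩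
  rintro rfl
  rw [ei', uu_zero, orderOf_one] at hi
  exact absurd hi (by norm_num)

theorem orderOf_uu_zero {b : F} (hb : b ≠ 0) : orderOf (uu Q (0 : F) b) = 2 := by
  refine orderOf_eq_prime ?_ ?_
  · rw [uu_sq, zero_pow (Nat.succ_ne_zero _), uu_zero]
  · intro e
    exact hb (uu_inj Q (e.trans (uu_zero Q).symm)).2

/-- Involutions with different fixed points are conjugate in the group they generate. -/
theorem conj_of_ne {M : Subgroup (Cfsg.Sz F m)} {i j : Cfsg.Sz F m} (hiM : i ∈ M) (hjM : j ∈ M)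
    (hi : orderOf i = 2) (hj : orderOf j = 2) {p r : Projectivization F (Fin 4 → F)}
    (hp : p ∈ Cfsg.suzukiOvoid F m) (hr : r ∈ Cfsg.suzukiOvoid F m)
    (hip : i.1 • p = p) (hjr : j.1 • r = r) (hne : p ≠ r) : ∃ y ∈ M, y * i * y⁻¹ = j := by
  have hii : i * i = 1 := by rw [← pow_two, ← hi]; exact pow_orderOf_eq_one i
  have hjj : j * j = 1 := by rw [← pow_two, ← hj]; exact pow_orderOf_eq_one j
  have hinv : i⁻¹ = i := inv_eq_of_mul_eq_one_right hii
  have hinvj : j⁻¹ = j := inv_eq_of_mul_eq_one_right hjj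
  set x := i * j with hx
  have hixi : i * x * i⁻¹ = x⁻¹ := by rw [hx, mul_inv_rev, hinvj, hinv, ← mul_assoc, hii, one_mul]
  have hjxj : j * x * j⁻¹ = x⁻¹ := by rw [hx, mul_inv_rev, hinvj, hinv, mul_assoc, mul_assoc, hjj, mul_one]
  have hodd : Odd (orderOf x) := by
    by_contra he
    rw [Nat.not_odd_iff_even, even_iff_two_dvd] at he
    have hx1 : orderOf x ≠ 0 := (orderOf_pos x).ne'
    set c := x ^ (orderOf x / 2) with hc
    have hc2 : orderOf c = 2 := orderOf_pow_orderOf_div hx1 he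
    have hcc : c⁻¹ = c := inv_eq_of_mul_eq_one_right (by rw [← pow_two, ← hc2]; exact pow_orderOf_eq_one c)
    have hcomm : ∀ u, u * x * u⁻¹ = x⁻¹ → u.1 * c.1 = c.1 * u.1 := fun u hu => by
      have h : u * c * u⁻¹ = c := by rw [hc, ← conj_pow, hu, inv_pow, ← hc, hcc]
      exact congrArg Subtype.val (mul_inv_eq_iff_eq_mul.1 h)
    obtain ⟨p', hp', hp'f, huc⟩ := inv_point Q hc2
    obtain ⟨pi, hpi, hpif, hupi⟩ := inv_point Q hi
    obtain ⟨pj, hpj, hpjf, hupj⟩ := inv_point Q hj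
    have h1 : i.1 • p' = p' := huc _ (smul_ovoid Q i.2 hp') (by rw [← mul_smul, ← hcomm i hixi, mul_smul, hp'f])
    have h2 : j.1 • p' = p' := huc _ (smul_ovoid Q j.2 hp') (by rw [← mul_smul, ← hcomm j hjxj, mul_smul, hp'f])
    exact hne ((hupi p hp hip).trans ((hupi p' hp' h1).symm.trans ((hupj p' hp' h2).trans (hupj r hr hjr).symm)))
  obtain ⟨k, hk⟩ := hodd
  refine ⟨x ^ k, pow_mem (mul_mem hiM hjM) k, ?_⟩
  have h1 : (x ^ k) * (x ^ k) = x⁻¹ := by
    refine eq_inv_of_mul_eq_one_left ?_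
    rw [← pow_add, ← pow_succ, show k + k + 1 = 2 * k + 1 by ring, ← hk, pow_orderOf_eq_one]
  have h2 : i * (x ^ k)⁻¹ = x ^ k * i := by
    have h3 : i * x ^ k * i⁻¹ = (x ^ k)⁻¹ := by rw [← conj_pow, hixi, inv_pow]
    rw [← h3, hinv, ← mul_assoc, ← mul_assoc, hii, one_mul]
  rw [mul_assoc, h2, ← mul_assoc, h1, hx, mul_inv_rev, hinvj, hinv, mul_assoc, hii, mul_one]

end Cfsg.Lib.Suz.Sub
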