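import Mathlib

/-!
Counting in a finite group with a family of trivially intersecting abelian centralisers of odd order.
-/

set_option autoImplicit false
set_option linter.style.haveILetI false

open scoped Pointwise

namespace Cfsg.Lib.Suz.Sub

variable {G : Type*} [Group G]

/-- A conjugation-closed set of elements with abelian, trivially intersecting centralisers of odd order. -/
structure TIFamily (Se : G → Prop) : Prop where
  conj : ∀ c g, Se g → Se (c * g * c⁻¹)
  ne_one : ∀ g, Se g → g ≠ 1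
  ti : ∀ g, Se g → ∀ x ∈ Subgroup.centralizer ({g} : Set G), x ≠ 1 →
    Se x ∧ Subgroup.centralizer ({x} : Set G) = Subgroup.centralizer ({g} : Set G)
  odd : ∀ g, Se g → Odd (Nat.card (Subgroup.centralizer ({g} : Set G)))

theorem mem_cent {g x : G} : x ∈ Subgroup.centralizer ({g} : Set G) ↔ Commute x g :=
  Subgroup.mem_centralizer_singleton_iff

theorem cent_conj (c g x : G) :
    x ∈ Subgroup.centralizer ({c * g * c⁻¹} : Set G) ↔ c⁻¹ * x * c ∈ Subgroup.centralizer ({g} : Set G) := by
  rw [mem_cent, mem_cent]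
  constructor
  · intro h
    show _ = _
    calc c⁻¹ * x * c * g = c⁻¹ * (x * (c * g * c⁻¹)) * c := by group
      _ = c⁻¹ * (c * g * c⁻¹ * x) * c := by rw [h.eq]
      _ = g * (c⁻¹ * x * c) := by group
  · intro h
    show _ = _
    calc x * (c * g * c⁻¹) = c * ((c⁻¹ * x * c) * g) * c⁻¹ := by group
      _ = c * (g * (c⁻¹ * x * c)) * c⁻¹ := by rw [h.eq]
      _ = c * g * c⁻¹ * x := by group

/-- The elements whose centraliser is conjugate to that of `g`. -/
def fam (Se : G → Prop) (g : G) : Set G :=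
  {x | Se x ∧ ∃ c : G, ∀ y, y ∈ Subgroup.centralizer ({x} : Set G) ↔
    c⁻¹ * y * c ∈ Subgroup.centralizer ({g} : Set G)}

/-- The involutions inverting `g`. -/
def inverters (g : G) : Set G := {i | orderOf i = 2 ∧ i * g * i⁻¹ = g⁻¹}

variable {Se : G → Prop}

theorem TIFamily.self_mem_fam (_h : TIFamily Se) {g : G} (hg : Se g) : g ∈ fam Se g :=
  ⟨hg, 1, fun y => by simp⟩

theorem TIFamily.fam_eq (_h : TIFamily Se) {g x : G} (hx : x ∈ fam Se g) : fam Se x = fam Se g := by
  obtain ⟨hxs, c, hc⟩ := hx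
  ext y
  constructor
  · rintro ⟨hy, d, hd⟩
    refine ⟨hy, d * c, fun z => ?_⟩
    rw [hd, hc, mul_inv_rev]
    simp [mul_assoc]
  · rintro ⟨hy, d, hd⟩
    refine ⟨hy, d * c⁻¹, fun z => ?_⟩
    rw [hd, hc, mul_inv_rev, inv_inv]
    simp [mul_assoc]

theorem TIFamily.fam_disjoint (h : TIFamily Se) {g x : G} (hx : Se x) (hn : x ∉ fam Se g) :
    Disjoint (fam Se g) (fam Se x) := by
  rw [Set.disjoint_left]
  intro y hy hy'
  refine hn ?_
  rw [← h.fam_eq hy, h.fam_eq hy']
  exact h.self_mem_fam hx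

theorem TIFamily.normalizer_iff (h : TIFamily Se) {g : G} (hg : Se g) {n : G}
    (hn : n * g * n⁻¹ ∈ Subgroup.centralizer ({g} : Set G)) :
    n ∈ Subgroup.normalizer (Subgroup.centralizer ({g} : Set G) : Set G) := by
  have hne : n * g * n⁻¹ ≠ 1 := fun e => h.ne_one g hg (by rwa [mul_inv_eq_one, mul_eq_left] at e)
  have e := (h.ti g hg _ hn hne).2
  rw [Subgroup.mem_normalizer_iff]
  intro x
  conv_rhs => rw [← e, cent_conj]
  simp [mul_assoc]

theorem TIFamily.card_fam [Finite G] (h : TIFamily Se) {g : G} (hg : Se g) :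
    Nat.card (fam Se g) * Nat.card (Subgroup.normalizer (Subgroup.centralizer ({g} : Set G) : Set G)) =
      Nat.card G * (Nat.card (Subgroup.centralizer ({g} : Set G)) - 1) := by
  classical
  set A := Subgroup.centralizer ({g} : Set G)
  set N := Subgroup.normalizer (A : Set G)
  have hne : ∀ x : {x : A // x ≠ 1}, x.1.1 ≠ 1 := fun x e => x.2 (Subtype.ext e)
  have hcent : ∀ (c : G) (x : {x : A // x ≠ 1}) (y : G),
      y ∈ Subgroup.centralizer ({c * x.1.1 * c⁻¹} : Set G) ↔ c⁻¹ * y * c ∈ A := fun c x y => by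
    rw [cent_conj, (h.ti g hg _ x.1.2 (hne x)).2]
  let f : (G ⧸ N) × {x : A // x ≠ 1} → fam Se g := fun z =>
    ⟨z.1.out * z.2.1.1 * z.1.out⁻¹, h.conj _ _ (h.ti g hg _ z.2.1.2 (hne z.2)).1, z.1.out, hcent _ _⟩
  have hf : Function.Bijective f := by
    refine ⟨fun ⟨a, x⟩ ⟨b, y⟩ hab => ?_, fun z => ?_⟩
    · have e : a.out * x.1.1 * a.out⁻¹ = b.out * y.1.1 * b.out⁻¹ := congrArg Subtype.val hab
      have h3 : a = b := by
        rw [← QuotientGroup.out_eq' a, ← QuotientGroup.out_eq' b, QuotientGroup.eq, Subgroup.mem_normalizer_iff]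
        intro u
        have h1 := hcent a.out x (a.out * u * a.out⁻¹)
        rw [e, hcent] at h1
        have h2 := hcent b.out y (b.out * u * b.out⁻¹)
        rw [← e, hcent] at h2
        constructor
        · intro hu
          have h4 := h2.2 (by simpa [mul_assoc] using hu)
          simpa [mul_assoc] using h4
        · intro hu
          have h4 := h2.1 (by simpa [mul_assoc] using hu)
          simpa [mul_assoc] using h4
      subst h3
      exact Prod.ext rfl (Subtype.ext (Subtype.ext (mul_left_cancel (mul_right_cancel e))))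
    · obtain ⟨hz, c, hc⟩ := z.2
      set q : G ⧸ N := QuotientGroup.mk c
      have hn : c⁻¹ * q.out ∈ N := QuotientGroup.eq.1 (QuotientGroup.out_eq' q).symm
      have hm : c⁻¹ * z.1 * c ∈ A := (hc _).1 (mem_cent.2 (Commute.refl _))
      have hx : q.out⁻¹ * z.1 * q.out ∈ A := by
        have := (Subgroup.mem_normalizer_iff.1 (N.inv_mem hn) _).1 hm
        simpa [mul_assoc] using this
      refine ⟨(q, ⟨⟨_, hx⟩, fun e => h.ne_one _ hz ?_⟩), Subtype.ext ?_⟩
      · have e' : q.out⁻¹ * z.1 * q.out = 1 := congrArg Subtype.val e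
        have e2 : z.1 = q.out * (q.out⁻¹ * z.1 * q.out) * q.out⁻¹ := by group
        rw [e2, e']; group
      · show q.out * (q.out⁻¹ * z.1 * q.out) * q.out⁻¹ = z.1
        group
  let : Fintype A := Fintype.ofFinite _
  rw [← Nat.card_eq_of_bijective f hf, Nat.card_prod,
    show Nat.card {x : A // x ≠ 1} = Nat.card A - 1 by simp [Nat.card_eq_fintype_card],
    ← N.index_mul_card]
  show N.index * _ * _ = N.index * _ * _
  ring

theorem TIFamily.card_normalizer_conj (h : TIFamily Se) {g x : G} (hg : Se g) (hx : x ∈ fam Se g) :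
    Nat.card (Subgroup.normalizer (Subgroup.centralizer ({x} : Set G) : Set G)) =
        Nat.card (Subgroup.normalizer (Subgroup.centralizer ({g} : Set G) : Set G)) ∧
      Nat.card (Subgroup.centralizer ({x} : Set G)) = Nat.card (Subgroup.centralizer ({g} : Set G)) := by
  obtain ⟨-, c, hc⟩ := hx
  have hN : ∀ n, n ∈ Subgroup.normalizer (Subgroup.centralizer ({x} : Set G) : Set G) ↔
      c⁻¹ * n * c ∈ Subgroup.normalizer (Subgroup.centralizer ({g} : Set G) : Set G) := fun n => by
    simp only [Subgroup.mem_normalizer_iff, hc]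
    constructor
    · intro hn u
      have := hn (c * u * c⁻¹)
      simpa [mul_assoc] using this
    · intro hn u
      have := hn (c⁻¹ * u * c)
      simpa [mul_assoc] using this
  have _ := h.ne_one g hg
  refine ⟨Nat.card_congr (Equiv.subtypeEquiv (MulAut.conj c⁻¹).toEquiv fun n => ?_),
    Nat.card_congr (Equiv.subtypeEquiv (MulAut.conj c⁻¹).toEquiv fun n => ?_)⟩
  · rw [hN]; simp
  · rw [hc]; simp

theorem TIFamily.inverts (h : TIFamily Se) {g i : G} (hg : Se g) (hi : orderOf i = 2)
    (hn : i ∈ Subgroup.normalizer (Subgroup.centralizer ({g} : Set G) : Set G))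
    (hne : i ∉ Subgroup.centralizer ({g} : Set G)) :
    ∀ x ∈ Subgroup.centralizer ({g} : Set G), i * x * i⁻¹ = x⁻¹ := by
  intro x hx
  have hii : i * i = 1 := by rw [← pow_two, ← hi]; exact pow_orderOf_eq_one i
  have hy : i * x * i⁻¹ ∈ Subgroup.centralizer ({g} : Set G) := (Subgroup.mem_normalizer_iff.1 hn x).1 hx
  -- the product is fixed by conjugation
  by_contra hcon
  have hne1 : x * (i * x * i⁻¹) ≠ 1 := fun e => hcon (eq_inv_of_mul_eq_one_right e)
  have hxy : Commute x (i * x * i⁻¹) := by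
    rcases eq_or_ne x 1 with rfl | hx1
    · exact Commute.one_left _
    · have := (h.ti g hg x hx hx1).2
      exact (mem_cent.1 (this ▸ hy)).symm
  have hfix : i * (x * (i * x * i⁻¹)) * i⁻¹ = x * (i * x * i⁻¹) := by
    have hinv : i⁻¹ = i := inv_eq_of_mul_eq_one_right hii
    calc i * (x * (i * x * i⁻¹)) * i⁻¹ = (i * x * i⁻¹) * ((i * i) * x * (i * i)⁻¹) := by group
      _ = (i * x * i⁻¹) * x := by rw [hii]; simp
      _ = x * (i * x * i⁻¹) := hxy.eq.symm
  refine hne ?_
  rw [← (h.ti g hg _ (mul_mem hx hy) hne1).2, mem_cent]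
  exact mul_inv_eq_iff_eq_mul.1 hfix

theorem TIFamily.not_mem_of_two (h : TIFamily Se) {g i : G} [Finite G] (hg : Se g) (hi : orderOf i = 2) :
    i ∉ Subgroup.centralizer ({g} : Set G) := fun hm => by
  have h2 : 2 ∣ Nat.card (Subgroup.centralizer ({g} : Set G)) := hi ▸ Subgroup.orderOf_dvd_natCard _ hm
  exact Nat.not_even_iff_odd.2 (h.odd g hg) (even_iff_two_dvd.2 h2)

theorem TIFamily.not_self_inv (h : TIFamily Se) [Finite G] {g : G} (hg : Se g) : g⁻¹ ≠ g := fun e => by
  have h2 : orderOf g = 2 := orderOf_eq_prime (by rw [pow_two]; nth_rw 1 [← e]; exact inv_mul_cancel g) (h.ne_one g hg)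
  exact h.not_mem_of_two hg h2 (mem_cent.2 (Commute.refl g))

/-- The number of involutions inverting an element. -/
theorem TIFamily.card_inverters (h : TIFamily Se) [Finite G] {g : G} (hg : Se g) :
    Nat.card (inverters g) = if 2 ∣ Nat.card (Subgroup.normalizer (Subgroup.centralizer ({g} : Set G) : Set G))
      then Nat.card (Subgroup.centralizer ({g} : Set G)) else 0 := by
  split_ifs with h2
  · have : Fact (Nat.Prime 2) := ⟨Nat.prime_two⟩
    obtain ⟨i, hi⟩ := exists_prime_orderOf_dvd_card'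
      (G := Subgroup.normalizer (Subgroup.centralizer ({g} : Set G) : Set G)) 2 h2
    have hi' : orderOf (i : G) = 2 := by rw [Subgroup.orderOf_coe]; exact hi
    have hinv := h.inverts hg hi' i.2 (h.not_mem_of_two hg hi')
    have hii : (i : G) * i = 1 := by rw [← pow_two, ← hi']; exact pow_orderOf_eq_one _
    let f : Subgroup.centralizer ({g} : Set G) → inverters g := fun x => ⟨i * x, by
      refine ⟨orderOf_eq_prime ?_ ?_, ?_⟩
      · rw [pow_two, show (i : G) * x * (i * x) = (i * x * (i : G)⁻¹) * ((i : G) * i) * x by group, hinv x x.2, hii,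
          mul_one, inv_mul_cancel]
      · intro e
        refine h.not_mem_of_two hg hi' ?_
        rw [eq_inv_of_mul_eq_one_left e]
        exact inv_mem x.2
      · rw [show (i : G) * x * g * ((i : G) * x)⁻¹ = i * (x * g * (x : G)⁻¹) * (i : G)⁻¹ by group,
          (mem_cent.1 x.2).eq, mul_inv_cancel_right]
        exact hinv g (mem_cent.2 (Commute.refl g))⟩
    refine (Nat.card_eq_of_bijective f ⟨fun x y e => Subtype.ext (mul_left_cancel (congrArg Subtype.val e)),
      fun y => ?_⟩).symm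
    refine ⟨⟨(i : G)⁻¹ * y, mem_cent.2 ?_⟩, Subtype.ext (mul_inv_cancel_left _ _)⟩
    have e1 := y.2.2
    have e2 := hinv g (mem_cent.2 (Commute.refl g))
    have e3 : ((i : G)⁻¹ * y) * g * ((i : G)⁻¹ * y)⁻¹ = g := by
      rw [show ((i : G)⁻¹ * y) * g * ((i : G)⁻¹ * y)⁻¹ = (i : G)⁻¹ * ((y : G) * g * (y : G)⁻¹) * i by group, e1, ← e2]
      group
    exact mul_inv_eq_iff_eq_mul.1 e3
  · rw [Nat.card_eq_zero]
    refine Or.inl ⟨fun y => h2 ?_⟩
    have hy := y.2
    have hm : (y : G) ∈ Subgroup.normalizer (Subgroup.centralizer ({g} : Set G) : Set G) :=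
      h.normalizer_iff hg (by rw [hy.2]; exact inv_mem (mem_cent.2 (Commute.refl g)))
    exact hy.1 ▸ Subgroup.orderOf_dvd_natCard _ hm

theorem TIFamily.card_inverters_fam (h : TIFamily Se) [Finite G] {g x : G} (hg : Se g) (hx : x ∈ fam Se g) :
    Nat.card (inverters x) = Nat.card (inverters g) := by
  obtain ⟨e1, e2⟩ := h.card_normalizer_conj hg hx
  rw [h.card_inverters hx.1, h.card_inverters hg, e1, e2]

/-- Pairs of involutions with product in the family. -/
theorem TIFamily.card_pairs (h : TIFamily Se) [Finite G] :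
    Nat.card {p : G × G // orderOf p.1 = 2 ∧ orderOf p.2 = 2 ∧ Se (p.1 * p.2)} =
      Nat.card (Σ g : {g : G // Se g}, inverters g.1) := by
  have hsq : ∀ i : G, orderOf i = 2 → i * i = 1 := fun i hi => by rw [← pow_two, ← hi]; exact pow_orderOf_eq_one i
  have hinv : ∀ i : G, orderOf i = 2 → i⁻¹ = i := fun i hi => inv_eq_of_mul_eq_one_right (hsq i hi)
  exact Nat.card_congr
    { toFun := fun p => ⟨⟨p.1.1 * p.1.2, p.2.2.2⟩, p.1.1, p.2.1, by
        rw [mul_inv_rev, hinv _ p.2.1, hinv _ p.2.2.1, ← mul_assoc, hsq _ p.2.1, one_mul]⟩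
      invFun := fun q => ⟨(q.2.1, q.2.1 * q.1.1), q.2.2.1, orderOf_eq_prime (by
          rw [pow_two, show q.2.1 * q.1.1 * (q.2.1 * q.1.1) = (q.2.1 * q.1.1 * q.2.1⁻¹) * (q.2.1 * q.2.1) * q.1.1 by
            group, q.2.2.2, hsq _ q.2.2.1, mul_one, inv_mul_cancel])
        (fun e => h.not_mem_of_two q.1.2 q.2.2.1
          (by rw [eq_inv_of_mul_eq_one_left e]; exact inv_mem (mem_cent.2 (Commute.refl _)))), by
          show Se (q.2.1 * (q.2.1 * q.1.1))
          rw [← mul_assoc, hsq _ q.2.2.1, one_mul]; exact q.1.2⟩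
      left_inv := fun p => Subtype.ext (Prod.ext rfl (by
        show p.1.1 * (p.1.1 * p.1.2) = p.1.2
        rw [← mul_assoc, hsq _ p.2.1, one_mul]))
      right_inv := fun q => by
        obtain ⟨⟨g, hg⟩, i, hi⟩ := q
        refine Sigma.subtype_ext (Subtype.ext ?_) rfl
        show i * (i * g) = g
        rw [← mul_assoc, hsq _ hi.1, one_mul] }

end Cfsg.Lib.Suz.Sub
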