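import Cfsg.Agent.Suz.Partition
import Cfsg.Agent.Suz.Aut
import Cfsg.Agent.Suz.Sub.TICount
import Mathlib

/-!
The elements of odd order of a subgroup of a Suzuki group form a trivially intersecting family.
-/

set_option autoImplicit false
set_option linter.unusedSectionVars false
set_option linter.style.haveILetI false

namespace Cfsg.Lib.Suz.Sub

open Cfsg.Lib.Suz

variable {F : Type*} [Field F] [Fintype F] {m : ℕ} (Q : Par F m)

local notation "SS" => Cfsg.Sz F m
local notation "inf∞" => Cfsg.suzukiPointInfinity F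

include Q

/-- Elements not conjugate into the unipotent subgroup. -/
def Semi (g : SS) : Prop := ∀ c, c * g * c⁻¹ ∉ uSub Q

theorem Semi.ne_one {g : SS} (h : Semi Q g) : g ≠ 1 := fun e => h 1 (by rw [e]; simp)

theorem Semi.conj {g : SS} (h : Semi Q g) (d : SS) : Semi Q (d * g * d⁻¹) := fun c hc => h (c * d) (by
  rwa [show c * d * g * (c * d)⁻¹ = c * (d * g * d⁻¹) * c⁻¹ by group])

theorem semi_hI {k : Fˣ} (hk : k ≠ 1) : Semi Q (hI Q k) := by
  intro c hc
  obtain ⟨a, b, e⟩ := exists_uu Q hc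
  have h4 : (c * hI Q k * c⁻¹) ^ 4 = 1 := by rw [e, uu_four]
  rw [conj_pow, mul_inv_eq_one, mul_eq_left] at h4
  have h5 : k ^ 4 = 1 := hHom_injective Q (by rw [map_pow, map_one]; exact h4)
  refine hk (orderOf_eq_one_iff.1 ?_)
  have h1 : orderOf k ∣ 2 ^ 2 := orderOf_dvd_of_pow_eq_one h5
  have h2 : orderOf k ∣ 2 ^ (2 * m + 1) - 1 := by
    have := orderOf_dvd_natCard k
    rwa [Nat.card_units, Nat.card_eq_fintype_card, Q.hF] at this
  obtain ⟨j, -, hj⟩ := (Nat.dvd_prime_pow Nat.prime_two).1 h1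
  rcases Nat.eq_zero_or_pos j with rfl | hj0
  · exact hj
  · exfalso
    have h3 : 2 ∣ 2 ^ (2 * m + 1) - 1 := (hj ▸ dvd_pow_self 2 hj0.ne').trans h2
    have : 2 ∣ 2 ^ (2 * m + 1) := dvd_pow_self 2 (Nat.succ_ne_zero _)
    have : 0 < 2 ^ (2 * m + 1) := pow_pos two_pos _
    omega

theorem semi_free {g : SS} (hg : Free Q g) : Semi Q g := fun c hc => by
  obtain ⟨a, b, e⟩ := hc
  have := free_conj Q c hg _ (inf_mem m)
  rw [e, T_inf] at this
  exact this rfl

theorem semi_cases {g : SS} (hg : Semi Q g) :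
    (∃ c k, k ≠ 1 ∧ c * g * c⁻¹ = hI Q k) ∨ Free Q g := by
  rcases elt_split Q hg.ne_one with ⟨c, hc⟩ | h | h
  · exact absurd hc (hg c)
  · exact Or.inl h
  · exact Or.inr h

theorem tor_eq_map {g : SS} {c : SS} {k : Fˣ} (hk : k ≠ 1) (e : c * g * c⁻¹ = hI Q k) :
    (tor g).map (MulAut.conj c).toMonoidHom = (hHom Q).range := by
  rw [map_conj_centralizer, e, ← cent_hI_eq Q hk]

theorem semi_spec {g : SS} (hg : Semi Q g) :
    IsCyclic (tor g) ∧ Odd (Nat.card (tor g)) ∧ ∀ x ∈ tor g, x ≠ 1 → Semi Q x ∧ tor x = tor g := by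
  rcases semi_cases Q hg with ⟨c, k, hk, e⟩ | hf
  · have hmap := tor_eq_map Q hk e
    obtain ⟨h1, h2⟩ := range_data Q
    let e' := (tor g).equivMapOfInjective (MulAut.conj c).toMonoidHom (MulAut.conj c).injective
    rw [hmap] at e'
    refine ⟨isCyclic_of_surjective e'.symm.toMonoidHom e'.symm.surjective, ?_, fun x hx hx1 => ?_⟩
    · rw [Nat.card_congr e'.toEquiv, h2, Nat.odd_iff, pow_succ]
      have : 0 < 2 ^ (2 * m) := pow_pos two_pos _
      omega
    obtain ⟨l, hl⟩ : c * x * c⁻¹ ∈ (hHom Q).range := hmap ▸ ⟨x, hx, rfl⟩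
    have hl1 : l ≠ 1 := by
      rintro rfl
      rw [map_one] at hl
      exact hx1 (by have := hl.symm; rwa [mul_inv_eq_one, mul_eq_left] at this)
    refine ⟨?_, ?_⟩
    · have h := (semi_hI Q hl1).conj Q c⁻¹
      rwa [show hI Q l = c * x * c⁻¹ from hl, show c⁻¹ * (c * x * c⁻¹) * c⁻¹⁻¹ = x by group] at h
    · refine Subgroup.map_injective (f := (MulAut.conj c).toMonoidHom) (MulAut.conj c).injective ?_
      rw [hmap, tor_eq_map Q hl1 (show c * x * c⁻¹ = hI Q l from hl.symm)]
  · obtain ⟨h1, h2, -⟩ := tor_spec Q hf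
    refine ⟨h1, ?_, fun x hx hx1 => ⟨semi_free Q (h2 x hx hx1).1, (h2 x hx hx1).2⟩⟩
    refine Odd.of_dvd_nat ?_ (card_tor Q hf).1
    rw [Nat.odd_iff, ← pow_mul, show (2 * m + 1) * 2 = (4 * m + 1) + 1 by ring, pow_succ]
    omega

/-- The normaliser of a torus is small. -/
theorem semi_weyl {g : SS} (hg : Semi Q g) : ∃ w, (w = 1 ∨ w = 2 ∨ w = 4) ∧
    ((∃ c k, k ≠ 1 ∧ c * g * c⁻¹ = hI Q k) → w ≠ 4) ∧
    Nat.card (Subgroup.normalizer (tor g : Set SS)) = w * Nat.card (tor g) := by
  rcases semi_cases Q hg with ⟨c, k, hk, e⟩ | hf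
  swap
  · obtain ⟨w, hw, h⟩ := weyl Q hf
    refine ⟨w, hw, ?_, h⟩
    rintro ⟨c, k, hk, e⟩
    exfalso
    have h' := free_conj Q c hf _ (inf_mem m)
    rw [e] at h'
    exact h' (H_inf m k)
  have hmap := tor_eq_map Q hk e
  set N := Subgroup.normalizer (tor g : Set SS)
  have hle : tor g ≤ N := Subgroup.le_normalizer
  obtain ⟨w, hw⟩ := Subgroup.card_dvd_of_le hle
  have h2 : Nat.card N ≤ 2 * Nat.card (tor g) := by
    classical
    let wS' : SS := wS Q
    let f : N → Bool × (hHom Q).range := fun n =>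
      if h : c * n.1 * c⁻¹ ∈ (hHom Q).range then (true, ⟨_, h⟩)
      else if h' : wS' * (c * n.1 * c⁻¹) ∈ (hHom Q).range then (false, ⟨_, h'⟩) else (true, 1)
    have key : ∀ n : N, c * n.1 * c⁻¹ ∈ (hHom Q).range ∨ wS' * (c * n.1 * c⁻¹) ∈ (hHom Q).range := by
      intro n
      obtain ⟨x, hx⟩ : ∃ x, x = c * n.1 * c⁻¹ := ⟨_, rfl⟩
      have hconj : x * hI Q k * x⁻¹ ∈ (hHom Q).range := by
        rw [← hmap]
        refine ⟨n.1 * g * (n.1)⁻¹, (Subgroup.mem_normalizer_iff.1 n.2 g).1 (mem_tor.2 (Commute.refl g)), ?_⟩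
        show c * (n.1 * g * (n.1)⁻¹) * c⁻¹ = _
        rw [hx, ← e]; group
      obtain ⟨l, hl⟩ := hconj
      have hl1 : l ≠ 1 := by
        rintro rfl
        rw [map_one] at hl
        have := hl.symm
        rw [mul_inv_eq_one, mul_eq_left] at this
        exact hk (hHom_injective Q (this.trans (map_one (hHom Q)).symm))
      have himg : ∀ p ∈ Cfsg.suzukiOvoid F m, H m k • p = p → x.1 • p = inf∞ ∨ x.1 • p = pt m 0 0 := by
        intro p hp hfix
        refine fixed_point_hI Q hl1 (smul_ovoid Q x.2 hp) ?_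
        have hl' : H m l = x.1 * H m k * x.1⁻¹ := congrArg Subtype.val hl
        rw [hl', mul_smul, mul_smul, inv_smul_smul, hfix]
      have h00 : H m k • pt m (0 : F) 0 = pt m 0 0 := by rw [H_pt Q, mul_zero, mul_zero]
      have hne := fun e' => pt_ne_inf m (0 : F) 0 (MulAction.injective x.1 e')
      rw [← hx]
      rcases himg _ (inf_mem m) (H_inf m k) with e1 | e1 <;> rcases himg _ (pt_mem m 0 0) h00 with e2 | e2
      · exact absurd (e2.trans e1.symm) hne
      · obtain ⟨l', hl'⟩ := stab_pair Q x.2 e1 e2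
        exact Or.inl ⟨l', Subtype.ext hl'.symm⟩
      · obtain ⟨l', hl'⟩ := stab_pair Q (g := (wS' * x).1) (wS' * x).2
          (by rw [Subgroup.coe_mul, mul_smul, e1]; exact W_zero m)
          (by rw [Subgroup.coe_mul, mul_smul, e2]; exact W_inf m)
        exact Or.inr ⟨l', Subtype.ext hl'.symm⟩
      · exact absurd (e2.trans e1.symm) hne
    have hf : Function.Injective f := by
      intro n n' he
      have hcc : ∀ a b : SS, c * a * c⁻¹ = c * b * c⁻¹ → a = b := fun a b e =>
        mul_left_cancel (mul_right_cancel e)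
      simp only [f] at he
      rcases key n with h | h <;> rcases key n' with h' | h'
      all_goals split_ifs at he with u1 u2 u3 u4
      all_goals
        first
        | exact Bool.noConfusion (congrArg Prod.fst he)
        | exact absurd h u1
        | exact absurd h u2
        | exact absurd h' u2
        | exact absurd h' u3
        | exact absurd h u4
        | exact absurd h' u4
        | exact Subtype.ext (hcc _ _ (congrArg Subtype.val (congrArg Prod.snd he)))
        | exact Subtype.ext (hcc _ _ (mul_left_cancel (congrArg Subtype.val (congrArg Prod.snd he))))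
    refine (Nat.card_le_card_of_injective f hf).trans (le_of_eq ?_)
    rw [Nat.card_prod, Nat.card_eq_fintype_card, Fintype.card_bool, ← hmap,
      Subgroup.card_map_of_injective (MulAut.conj c).injective]
  have hpos : 0 < Nat.card (tor g) := Nat.card_pos
  have hw0 : w ≠ 0 := fun h => by rw [h, mul_zero] at hw; exact Nat.card_pos.ne' hw
  have hw2 : w ≤ 2 := by
    rw [hw, mul_comm] at h2
    exact Nat.le_of_mul_le_mul_right h2 hpos
  exact ⟨w, by omega, fun _ => by omega, by rw [hw, mul_comm]⟩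

variable (M : Subgroup ↥(Cfsg.Sz F m))

/-- The semisimple elements of a subgroup. -/
def SemiIn (g : M) : Prop := Semi Q g.1

theorem mem_cent_val {g x : M} :
    x ∈ Subgroup.centralizer ({g} : Set M) ↔ x.1 ∈ tor g.1 := by
  rw [mem_cent, mem_tor]
  exact ⟨fun h => congrArg Subtype.val h.eq, fun h => Subtype.ext h.eq⟩

theorem cent_eq (g : M) : Subgroup.centralizer ({g} : Set M) = (tor g.1).subgroupOf M :=
  Subgroup.ext fun _ => mem_cent_val Q M

theorem family : TIFamily (SemiIn Q M) where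
  conj c g h := h.conj Q c.1
  ne_one g h e := h.ne_one Q (congrArg Subtype.val e)
  ti g h x hx hx1 := by
    obtain ⟨h1, h2⟩ := (semi_spec Q h).2.2 x.1 ((mem_cent_val Q M).1 hx) (fun e => hx1 (Subtype.ext e))
    exact ⟨h1, by rw [cent_eq Q, cent_eq Q, h2]⟩
  odd g h := by
    rw [cent_eq Q]
    refine Odd.of_dvd_nat (semi_spec Q h).2.1 ?_
    have e : Nat.card ((tor g.1).subgroupOf M) = Nat.card (tor g.1 ⊓ M : Subgroup ↥(Cfsg.Sz F m)) := by
      rw [← Subgroup.inf_subgroupOf_right (tor g.1) M]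
      exact Nat.card_congr (Subgroup.subgroupOfEquivOfLe inf_le_right).toEquiv
    rw [e]
    exact Subgroup.card_dvd_of_le inf_le_left

theorem five_le {g : M} (hg : SemiIn Q M g) : 5 ≤ Nat.card (Subgroup.centralizer ({g} : Set M)) := by
  have hodd := (family Q M).odd g hg
  have hgm : g ∈ Subgroup.centralizer ({g} : Set M) := mem_cent.2 (Commute.refl g)
  have h1 : Nat.card (Subgroup.centralizer ({g} : Set M)) ≠ 1 := fun e => by
    have := Subgroup.eq_bot_of_card_eq _ e
    rw [this, Subgroup.mem_bot] at hgm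
    exact (family Q M).ne_one g hg hgm
  have h3 : ¬ 3 ∣ Nat.card (Cfsg.Sz F m) := by
    intro h
    rw [card_Sz Q] at h
    have h := (ZMod.natCast_eq_zero_iff _ _).2 h
    rw [Nat.cast_mul, Nat.cast_mul, Nat.cast_sub (Nat.one_le_pow _ _ two_pos)] at h
    push_cast at h
    have e2 : (2 : ZMod 3) ^ (2 * m + 1) = 2 := by
      rw [pow_succ, pow_mul, show (2 : ZMod 3) ^ 2 = 1 from rfl, one_pow, one_mul]
    rw [e2] at h
    exact absurd h (by decide)
  have hne3 : Nat.card (Subgroup.centralizer ({g} : Set M)) ≠ 3 := fun e =>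
    h3 ((e ▸ Subgroup.card_subgroup_dvd_card _).trans (Subgroup.card_subgroup_dvd_card M))
  rw [Nat.odd_iff] at hodd
  omega

/-- The relative normalisers are small. -/
theorem weyl_in {g : M} (hg : SemiIn Q M g) :
    ∃ w, (w = 1 ∨ w = 2 ∨ w = 4) ∧ ((∃ c k, k ≠ 1 ∧ c * g.1 * c⁻¹ = hI Q k) → w ≠ 4) ∧
      Nat.card (Subgroup.normalizer (Subgroup.centralizer ({g} : Set M) : Set M)) =
        w * Nat.card (Subgroup.centralizer ({g} : Set M)) := by
  obtain ⟨W0, hW, hW4, hN⟩ := semi_weyl Q hg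
  set A := Subgroup.centralizer ({g} : Set M)
  set N := Subgroup.normalizer (A : Set M)
  let f : N →* Subgroup.normalizer (tor g.1 : Set SS) :=
    (M.subtype.comp N.subtype).codRestrict _ fun n => by
      rw [Subgroup.mem_normalizer_iff]
      intro x
      have hmem : n.1 * g * (n.1)⁻¹ ∈ A :=
        (Subgroup.mem_normalizer_iff.1 n.2 g).1 (mem_cent.2 (Commute.refl g))
      have hne : (n.1.1 * g.1 * (n.1.1)⁻¹) ≠ 1 := fun e => hg.ne_one Q (by
        rwa [mul_inv_eq_one, mul_eq_left] at e)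
      have e := ((semi_spec Q hg).2.2 _ ((mem_cent_val Q M).1 hmem) hne).2
      conv_rhs => rw [← e]
      show x ∈ tor g.1 ↔ n.1.1 * x * (n.1.1)⁻¹ ∈ Subgroup.centralizer ({n.1.1 * g.1 * (n.1.1)⁻¹} : Set SS)
      rw [cent_conj]
      simp [mul_assoc]
  let T' : Subgroup (Subgroup.normalizer (tor g.1 : Set SS)) :=
    (tor g.1).subgroupOf (Subgroup.normalizer (tor g.1 : Set SS))
  have hTn : T'.Normal := Subgroup.normal_subgroupOf_iff_le_normalizer (Subgroup.le_normalizer) |>.2 le_rfl
  have hA : A.subgroupOf N = T'.comap f := by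
    ext x
    rw [Subgroup.mem_subgroupOf, Subgroup.mem_comap]
    exact mem_cent_val Q M
  have hidx : (A.subgroupOf N).index ∣ T'.index := by
    rw [hA, Subgroup.index_comap]
    exact Subgroup.relIndex_dvd_index_of_normal T' f.range
  have hT' : T'.index = W0 := by
    have h1 := T'.card_mul_index
    rw [Nat.card_congr (Subgroup.subgroupOfEquivOfLe (Subgroup.le_normalizer (H := tor g.1))).toEquiv, hN,
      mul_comm W0] at h1
    exact Nat.eq_of_mul_eq_mul_left Nat.card_pos h1
  rw [hT'] at hidx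
  refine ⟨(A.subgroupOf N).index, ?_, ?_, ?_⟩
  · rcases hW with rfl | rfl | rfl
    · exact Or.inl (Nat.dvd_one.1 hidx)
    · rcases (Nat.dvd_prime Nat.prime_two).1 hidx with h | h <;> omega
    · have := Nat.le_of_dvd (by norm_num) hidx
      have h0 : (A.subgroupOf N).index ≠ 0 := Subgroup.index_ne_zero_of_finite
      have h3 : (A.subgroupOf N).index ≠ 3 := fun h => by rw [h] at hidx; norm_num at hidx
      omega
  · intro hc he
    rw [he] at hidx
    have := hW4 hc
    rcases hW with rfl | rfl | rfl <;> first | omega | norm_num at hidx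
  · rw [← Nat.card_congr (Subgroup.subgroupOfEquivOfLe (Subgroup.le_normalizer (H := A))).toEquiv, mul_comm,
      Subgroup.card_mul_index]

end Cfsg.Lib.Suz.Sub
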